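import Mathlib
import Cfsg.Agent.Lib.SectRank.Basic
import Cfsg.Agent.Lib.SectRank.Metacyclic

/-!
A group `L` with a normal 2-subgroup `Q` such that `L/Q` has no proper normal subgroup and contains
elements of order 5, 3 and 2, the last inverting the first; the sections inside `Q` when `L` has
sectional 2-rank at most four.  (Written by helper38.)
-/

set_option autoImplicit false

namespace Cfsg.Agent.Lib.RadicalFive

open Cfsg.Agent.Lib.SectRank
open scoped commutatorElement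

universe u

/-- Congruence for the fixed points of conjugation by an element of prime order on an invariant set. -/
theorem card_modEq_fixed {L : Type u} [Group L] [Finite L] {p : ℕ} [Fact p.Prime] {g : L}
    (hg : g ^ p = 1) (S : Set L) (hS : ∀ x ∈ S, g * x * g⁻¹ ∈ S) :
    Nat.card S ≡ Nat.card {x : L // x ∈ S ∧ Commute g x} [MOD p] := by
  have hH : IsPGroup p (Subgroup.zpowers g) := by
    rcases (Nat.dvd_prime (Fact.out : p.Prime)).1 (orderOf_dvd_of_pow_eq_one hg) with h | h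
    · exact IsPGroup.of_card (n := 0) (by rw [Nat.card_zpowers, h, pow_zero])
    · exact IsPGroup.of_card (n := 1) (by rw [Nat.card_zpowers, h, pow_one])
  have hn : ∀ (n : ℕ) (x : L), x ∈ S → g ^ n * x * (g ^ n)⁻¹ ∈ S := by
    intro n
    induction n with
    | zero => intro x hx; simpa using hx
    | succ n ih =>
      intro x hx
      have := hS _ (ih x hx)
      convert this using 1
      rw [pow_succ']
      group
  have hpow : ∀ (h : Subgroup.zpowers g) (x : S), (h : L) * x * (h : L)⁻¹ ∈ S := by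
    intro h x
    obtain ⟨n, hn'⟩ := (mem_powers_iff_mem_zpowers (x := g)).2 h.2
    have := hn n x x.2
    simp only at hn'
    rwa [hn'] at this
  letI : MulAction (Subgroup.zpowers g) S :=
    { smul := fun h x => ⟨(h : L) * x * (h : L)⁻¹, hpow h x⟩
      one_smul := fun x => Subtype.ext (show ((1 : Subgroup.zpowers g) : L) * x * _⁻¹ = x by simp)
      mul_smul := fun h k x => Subtype.ext
        (show ((h * k : Subgroup.zpowers g) : L) * x * ((h * k : Subgroup.zpowers g) : L)⁻¹ =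
          (h : L) * ((k : L) * x * (k : L)⁻¹) * (h : L)⁻¹ by simp [mul_assoc]) }
  refine (hH.card_modEq_card_fixedPoints S).trans ?_
  rw [Nat.card_congr (β := {x : L // x ∈ S ∧ Commute g x}) ?_]
  exact
    { toFun := fun x => ⟨((x : S) : L), (x : S).2, by
        have := congrArg Subtype.val (x.2 ⟨g, Subgroup.mem_zpowers g⟩)
        change g * ((x : S) : L) * g⁻¹ = ((x : S) : L) at this
        exact mul_inv_eq_iff_eq_mul.1 this⟩
      invFun := fun x => ⟨⟨x, x.2.1⟩, fun h => Subtype.ext (by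
        show (h : L) * (x : L) * (h : L)⁻¹ = (x : L)
        obtain ⟨n, hn'⟩ := Subgroup.mem_zpowers_iff.1 h.2
        rw [← hn', (x.2.2.zpow_left n).eq, mul_inv_cancel_right])⟩
      left_inv := fun x => rfl
      right_inv := fun x => rfl }

/-- `L / Q` has no proper normal subgroup and has elements `c, d, a` of order 5, 3, 2, `a` inverting `c`. -/
structure Acts {L : Type u} [Group L] (Q : Subgroup L) (c d a : L) : Prop where
  normal : Q.Normal
  isTwo : IsPGroup 2 Q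
  top_or : ∀ K : Subgroup L, K.Normal → Q ≤ K → K = Q ∨ K = ⊤
  c_pow : c ^ 5 = 1
  d_pow : d ^ 3 = 1
  c_nmem : c ∉ Q
  d_nmem : d ∉ Q
  a_nmem : a ∉ Q
  a_sq : a * a ∈ Q
  inverts : a * c * a⁻¹ * c ∈ Q
  rank : Cfsg.SectionalPRankLE 2 4 L

theorem mk_mem_map_iff {L : Type u} [Group L] {R K : Subgroup L} [R.Normal] (hR : R ≤ K) (g : L) :
    (g : L ⧸ R) ∈ K.map (QuotientGroup.mk' R) ↔ g ∈ K := by
  constructor
  · rintro ⟨k, hk, he⟩
    have h1 : k⁻¹ * g ∈ R := QuotientGroup.eq.1 he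
    simpa using K.mul_mem hk (hR h1)
  · exact fun hg => ⟨g, hg, rfl⟩

/-- An exponent-two subgroup is commutative. -/
theorem commute_of_sq {L : Type u} [Group L] {M : Subgroup L} (hM : ∀ x ∈ M, x * x = 1) {x y : L}
    (hx : x ∈ M) (hy : y ∈ M) : Commute x y := by
  have h := hM _ (M.mul_mem hx hy)
  have hx' := inv_eq_of_mul_eq_one_right (hM x hx)
  have hy' := inv_eq_of_mul_eq_one_right (hM y hy)
  have h' := inv_eq_of_mul_eq_one_right h
  rw [mul_inv_rev, hx', hy'] at h'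
  exact h'.symm

/-- The subgroup generated by a set of elements commuting modulo a centralised subgroup and squaring
into it gives an elementary section. -/
theorem isElemSection_closure {L : Type u} [Group L] {D : Subgroup L} {S : Set L}
    (hD : D ≤ Subgroup.closure S) (hcent : ∀ s ∈ S, ∀ x ∈ D, Commute s x)
    (hcomm : ∀ s ∈ S, ∀ t ∈ S, s * t * s⁻¹ * t⁻¹ ∈ D) (hsq : ∀ s ∈ S, s * s ∈ D) :
    IsElemSection 2 D (Subgroup.closure S) := by
  set H := Subgroup.closure S with hH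
  have hHD : ∀ h ∈ H, ∀ x ∈ D, Commute h x := by
    intro h hh x hx
    induction hh using Subgroup.closure_induction with
    | mem s hs => exact hcent s hs x hx
    | one => exact Commute.one_left x
    | mul u v _ _ iu iv => exact iu.mul_left iv
    | inv u _ iu => exact iu.inv_left
  haveI : (D.subgroupOf H).Normal := ⟨fun n hn g => by
    rw [Subgroup.mem_subgroupOf] at hn ⊢
    simp only [Subgroup.coe_mul, Subgroup.coe_inv]
    rwa [(hHD g g.2 n hn).eq, mul_inv_cancel_right]⟩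
  set q := QuotientGroup.mk' (D.subgroupOf H)
  have hq1 : ∀ x : H, q x = 1 ↔ (x : L) ∈ D := fun x =>
    (QuotientGroup.eq_one_iff x).trans Subgroup.mem_subgroupOf
  have hS : ∀ s ∈ S, ∀ t ∈ S, ∀ hs : s ∈ H, ∀ ht : t ∈ H, Commute (q ⟨s, hs⟩) (q ⟨t, ht⟩) := by
    intro s hs t ht hs' ht'
    rw [← commutatorElement_eq_one_iff_commute, ← map_commutatorElement, hq1]
    exact hcomm s hs t ht
  have hcq : ∀ x y : H, Commute (q x) (q y) := by
    have h1 : ∀ s ∈ S, ∀ (hs : s ∈ H) (y : H), Commute (q ⟨s, hs⟩) (q y) := by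
      intro s hs hs' ⟨y, hy⟩
      induction hy using Subgroup.closure_induction with
      | mem t ht => exact hS s hs t ht hs' _
      | one => exact (by rw [show (⟨1, _⟩ : H) = 1 from rfl, map_one]; exact Commute.one_right _)
      | mul u v hu hv iu iv =>
        rw [show (⟨u * v, _⟩ : H) = ⟨u, hu⟩ * ⟨v, hv⟩ from rfl, map_mul]
        exact iu.mul_right iv
      | inv u hu iu =>
        rw [show (⟨u⁻¹, _⟩ : H) = (⟨u, hu⟩ : H)⁻¹ from rfl, map_inv]
        exact iu.inv_right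
    intro ⟨x, hx⟩ y
    induction hx using Subgroup.closure_induction with
    | mem t ht => exact h1 t ht _ y
    | one => exact (by rw [show (⟨1, _⟩ : H) = 1 from rfl, map_one]; exact Commute.one_left _)
    | mul u v hu hv iu iv =>
      rw [show (⟨u * v, _⟩ : H) = ⟨u, hu⟩ * ⟨v, hv⟩ from rfl, map_mul]
      exact iu.mul_left iv
    | inv u hu iu =>
      rw [show (⟨u⁻¹, _⟩ : H) = (⟨u, hu⟩ : H)⁻¹ from rfl, map_inv]
      exact iu.inv_left
  refine ⟨hD, fun x hx y hy => ?_, fun x hx => ?_⟩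
  · have := (hq1 ⁅(⟨x, hx⟩ : H), ⟨y, hy⟩⁆).1 (by
      rw [map_commutatorElement, commutatorElement_eq_one_iff_commute]
      exact hcq _ _)
    simpa [commutatorElement_def] using this
  · rw [pow_two]
    have key : q ⟨x, hx⟩ * q ⟨x, hx⟩ = 1 := by
      induction hx using Subgroup.closure_induction with
      | mem t ht => rw [← map_mul, hq1]; exact hsq t ht
      | one => rw [show (⟨1, _⟩ : H) = 1 from rfl, map_one, one_mul]
      | mul u v hu hv iu iv =>
        rw [show (⟨u * v, _⟩ : H) = ⟨u, hu⟩ * ⟨v, hv⟩ from rfl, map_mul]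
        rw [(hcq ⟨v, hv⟩ ⟨u, hu⟩).mul_mul_mul_comm, iu, iv, one_mul]
      | inv u hu iu =>
        rw [show (⟨u⁻¹, _⟩ : H) = (⟨u, hu⟩ : H)⁻¹ from rfl, map_inv, ← mul_inv_rev, iu, inv_one]
    rw [← map_mul, hq1] at key
    simpa using key

variable {L : Type u} [Group L] [Finite L] {Q : Subgroup L} {c d a : L}

theorem card_map_mul (F U : Subgroup L) [F.Normal] (hFU : F ≤ U) :
    Nat.card F * Nat.card (U.map (QuotientGroup.mk' F)) = Nat.card U := by
  rw [← Subgroup.relIndex_ker, QuotientGroup.ker_mk']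
  exact card_mul_relIndex_of_le F U hFU

namespace Acts

theorem quot (h : Acts Q c d a) (R : Subgroup L) [R.Normal] (hR : R ≤ Q) :
    Acts (Q.map (QuotientGroup.mk' R)) (c : L ⧸ R) d a where
  normal := h.normal.map _ (QuotientGroup.mk'_surjective R)
  isTwo := h.isTwo.map _
  top_or K hK hQK := by
    have hle : Q ≤ K.comap (QuotientGroup.mk' R) := Subgroup.map_le_iff_le_comap.1 hQK
    rcases h.top_or _ (hK.comap _) hle with e | e
    · left
      rw [← Subgroup.map_comap_eq_self_of_surjective (QuotientGroup.mk'_surjective R) K, e]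
    · right
      rw [← Subgroup.map_comap_eq_self_of_surjective (QuotientGroup.mk'_surjective R) K, e]
      exact Subgroup.map_top_of_surjective _ (QuotientGroup.mk'_surjective R)
  c_pow := by rw [← QuotientGroup.mk_pow, h.c_pow]; rfl
  d_pow := by rw [← QuotientGroup.mk_pow, h.d_pow]; rfl
  c_nmem := fun hh => h.c_nmem ((mk_mem_map_iff hR c).1 hh)
  d_nmem := fun hh => h.d_nmem ((mk_mem_map_iff hR d).1 hh)
  a_nmem := fun hh => h.a_nmem ((mk_mem_map_iff hR a).1 hh)
  a_sq := (mk_mem_map_iff hR _).2 h.a_sq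
  inverts := (mk_mem_map_iff hR _).2 h.inverts
  rank := sectionalPRankLE_quotient h.rank R

theorem adjust (h : Acts Q c d a) {y : L} (hy : y ∈ Q) : Acts Q c d (y * a) where
  normal := h.normal
  isTwo := h.isTwo
  top_or := h.top_or
  c_pow := h.c_pow
  d_pow := h.d_pow
  c_nmem := h.c_nmem
  d_nmem := h.d_nmem
  a_nmem := fun hh => h.a_nmem ((Q.mul_mem_cancel_left hy).1 hh)
  a_sq := by
    have h1 : y * a * (y * a) = y * (a * y * a⁻¹) * (a * a) := by group
    rw [h1]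
    exact Q.mul_mem (Q.mul_mem hy (h.normal.conj_mem y hy a)) h.a_sq
  inverts := by
    have h1 : y * a * c * (y * a)⁻¹ * c = y * (a * c * a⁻¹ * c) * (c⁻¹ * y⁻¹ * c⁻¹⁻¹) := by group
    rw [h1]
    exact Q.mul_mem (Q.mul_mem hy h.inverts) (h.normal.conj_mem _ (Q.inv_mem hy) c⁻¹)
  rank := h.rank

/-- An element outside `Q` centralising a normal subgroup centralised by `Q` makes all of `L` do so. -/
theorem fix_all (h : Acts Q c d a) {M : Subgroup L} [M.Normal]
    (hQ : ∀ q ∈ Q, ∀ x ∈ M, Commute q x) {g : L} (hg : g ∉ Q) (hgM : ∀ x ∈ M, Commute g x) :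
    ∀ (l : L), ∀ x ∈ M, Commute l x := by
  have hle : Q ≤ Subgroup.centralizer (M : Set L) := fun q hq =>
    Subgroup.mem_centralizer_iff.2 fun x hx => (hQ q hq x hx).eq.symm
  have hgm : g ∈ Subgroup.centralizer (M : Set L) :=
    Subgroup.mem_centralizer_iff.2 fun x hx => (hgM x hx).eq.symm
  rcases h.top_or _ inferInstance hle with e | e
  · exact absurd (e ▸ hgm) hg
  · intro l x hx
    have hl : l ∈ Subgroup.centralizer (M : Set L) := e ▸ Subgroup.mem_top l
    exact (Subgroup.mem_centralizer_iff.1 hl x hx).symm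

theorem card_le_sixteen (h : Acts Q c d a) {M : Subgroup L} (hM : ∀ x ∈ M, x * x = 1) :
    Nat.card M ≤ 16 := by
  have hs : IsElemSection 2 (⊥ : Subgroup L) M := by
    refine ⟨bot_le, fun x hx y hy => ?_, fun x hx => ?_⟩
    · rw [Subgroup.mem_bot, (commute_of_sq hM hx hy).eq]; group
    · rw [Subgroup.mem_bot, pow_two, hM x hx]
  have := hs.relIndex_le h.rank
  rwa [Subgroup.relIndex_bot_left] at this

theorem card_eq_pow (h : Acts Q c d a) {M : Subgroup L} (hM : M ≤ Q) :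
    ∃ k, Nat.card M = 2 ^ k :=
  haveI : Fact (Nat.Prime 2) := ⟨Nat.prime_two⟩
  (h.isTwo.to_le hM).exists_card_eq

theorem card_fixed_eq {M : Subgroup L} (g : L) :
    Nat.card {x : L // x ∈ (M : Set L) ∧ Commute g x} =
      Nat.card ↥(M ⊓ Subgroup.centralizer {g}) :=
  Nat.card_congr (Equiv.subtypeEquivRight fun x => by
    rw [Subgroup.mem_inf, Subgroup.mem_centralizer_singleton_iff]
    exact and_congr Iff.rfl ⟨fun e => e.eq.symm, fun e => e.symm⟩)

/-- A normal elementary section moved by `c` has order 16, and `c` fixes only the identity. -/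
theorem moved (h : Acts Q c d a) {M : Subgroup L} [M.Normal] (hMQ : M ≤ Q)
    (hM : ∀ x ∈ M, x * x = 1) (hmove : ∃ x ∈ M, ¬ Commute c x) :
    Nat.card M = 16 ∧ (∀ x ∈ M, Commute c x → x = 1) ∧
      ∀ K : Subgroup L, K ≤ M → (∀ x ∈ K, c * x * c⁻¹ ∈ K) → K = ⊥ ∨ K = M := by
  haveI : Fact (Nat.Prime 5) := ⟨Nat.prime_five⟩
  have h16 := h.card_le_sixteen hM
  obtain ⟨k, hk⟩ := h.card_eq_pow hMQ
  obtain ⟨j, hj⟩ := h.card_eq_pow (M := M ⊓ Subgroup.centralizer {c}) (inf_le_left.trans hMQ)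
  have hlt : Nat.card ↥(M ⊓ Subgroup.centralizer {c}) < Nat.card M := by
    refine lt_of_le_of_ne (Subgroup.card_le_of_le inf_le_left) fun e => ?_
    obtain ⟨x, hx, hxc⟩ := hmove
    have := Subgroup.eq_of_le_of_card_ge inf_le_left (le_of_eq e.symm)
    rw [← this] at hx
    exact hxc (Subgroup.mem_centralizer_singleton_iff.1 hx.2).symm
  have hmod := card_modEq_fixed h.c_pow (M : Set L) fun x hx => Subgroup.Normal.conj_mem ‹_› x hx c
  rw [card_fixed_eq, hj] at hmod
  change Nat.card M % 5 = 2 ^ j % 5 at hmod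
  rw [hk] at hlt hmod h16
  rw [hj] at hlt
  have hk4 : k ≤ 4 := (Nat.pow_le_pow_iff_right (by norm_num)).1 (show 2 ^ k ≤ 2 ^ 4 by norm_num; exact h16)
  have hj4 : j < k := (Nat.pow_lt_pow_iff_right (by norm_num)).1 hlt
  have hres : k = 4 ∧ j = 0 := by
    interval_cases k <;> interval_cases j <;> simp_all
  obtain ⟨rfl, rfl⟩ := hres
  have hfix : ∀ x ∈ M, Commute c x → x = 1 := by
    intro x hx hc
    have hm : x ∈ M ⊓ Subgroup.centralizer {c} :=
      ⟨hx, Subgroup.mem_centralizer_singleton_iff.2 hc.eq.symm⟩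
    rw [pow_zero, Subgroup.card_eq_one] at hj
    rw [hj] at hm
    exact hm
  refine ⟨by rw [hk]; rfl, hfix, fun K hKM hK => ?_⟩
  obtain ⟨i, hi⟩ := h.card_eq_pow (hKM.trans hMQ)
  have hmod' := card_modEq_fixed h.c_pow (K : Set L) hK
  have h1 : Nat.card {x : L // x ∈ (K : Set L) ∧ Commute c x} = 1 := by
    rw [card_fixed_eq, Subgroup.card_eq_one, eq_bot_iff]
    exact fun x hx => hfix x (hKM hx.1) (Subgroup.mem_centralizer_singleton_iff.1 hx.2).symm
  rw [h1] at hmod'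
  change Nat.card K % 5 = 1 % 5 at hmod'
  rw [hi] at hmod'
  have hi4 : i ≤ 4 := (Nat.pow_le_pow_iff_right (by norm_num)).1
    (show 2 ^ i ≤ 2 ^ 4 by rw [← hi, ← hk]; exact Subgroup.card_le_of_le hKM)
  interval_cases i <;> simp_all
  exact Or.inr (Subgroup.eq_of_le_of_card_ge hKM (by rw [hi, hk]))

/-- The fixed points of `a` on such a section: order 4, all of the form `y (a y a⁻¹)`. -/
theorem a_fix (h : Acts Q c d a) {M : Subgroup L} [M.Normal] (hMQ : M ≤ Q)
    (hQM : ∀ q ∈ Q, ∀ x ∈ M, Commute q x) (hM : ∀ x ∈ M, x * x = 1)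
    (hmove : ∃ x ∈ M, ¬ Commute c x) :
    Nat.card ↥(M ⊓ Subgroup.centralizer {a}) = 4 ∧
      ∀ x ∈ M, Commute a x → ∃ y ∈ M, x = y * (a * y * a⁻¹) := by
  obtain ⟨hc16, hfix, -⟩ := h.moved hMQ hM hmove
  have hconj : ∀ y ∈ M, a * y * a⁻¹ ∈ M := fun y hy => Subgroup.Normal.conj_mem ‹_› y hy a
  let f : M →* L := MonoidHom.mk' (fun y => (y : L) * (a * y * a⁻¹)) fun y z => by
    show (y : L) * z * (a * (y * z) * a⁻¹) = (y : L) * (a * y * a⁻¹) * ((z : L) * (a * z * a⁻¹))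
    rw [show a * ((y : L) * z) * a⁻¹ = (a * y * a⁻¹) * (a * z * a⁻¹) by group]
    exact (commute_of_sq hM z.2 (hconj _ y.2)).mul_mul_mul_comm _ _
  set K := M ⊓ Subgroup.centralizer {a} with hKdef
  have hker : f.ker.map M.subtype = K := by
    ext x
    constructor
    · rintro ⟨y, hy, rfl⟩
      refine ⟨y.2, Subgroup.mem_centralizer_singleton_iff.2 ?_⟩
      have h1 : (y : L) * (a * y * a⁻¹) = 1 := hy
      have h2 : a * (y : L) * a⁻¹ = y := by
        rw [← inv_eq_of_mul_eq_one_right h1, inv_eq_of_mul_eq_one_right (hM _ y.2)]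
      exact (mul_inv_eq_iff_eq_mul.1 h2).symm
    · rintro ⟨hxM, hxa⟩
      refine ⟨⟨x, hxM⟩, ?_, rfl⟩
      show x * (a * x * a⁻¹) = 1
      rw [← Subgroup.mem_centralizer_singleton_iff.1 hxa, mul_inv_cancel_right]
      exact hM x hxM
  have hrange : f.range ≤ K := by
    rintro _ ⟨y, rfl⟩
    refine ⟨M.mul_mem y.2 (hconj _ y.2), Subgroup.mem_centralizer_singleton_iff.2 ?_⟩
    show (y : L) * (a * y * a⁻¹) * a = a * ((y : L) * (a * y * a⁻¹))
    have h2 : a * (a * (y : L) * a⁻¹) * a⁻¹ = y := by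
      rw [show a * (a * (y : L) * a⁻¹) * a⁻¹ = (a * a) * y * (a * a)⁻¹ by group,
        (hQM _ h.a_sq _ y.2).eq, mul_inv_cancel_right]
    have h3 : a * ((y : L) * (a * y * a⁻¹)) * a⁻¹ = y * (a * y * a⁻¹) := by
      rw [show a * ((y : L) * (a * y * a⁻¹)) * a⁻¹ = (a * y * a⁻¹) * (a * (a * y * a⁻¹) * a⁻¹) by group,
        h2, (commute_of_sq hM y.2 (hconj _ y.2)).eq]
    exact (mul_inv_eq_iff_eq_mul.1 h3).symm
  have hcard : Nat.card K * Nat.card f.range = 16 := by
    have h1 := f.ker.card_mul_index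
    rw [Subgroup.index_ker, hc16] at h1
    rwa [← hker, Subgroup.card_map_of_injective M.subtype_injective]
  have hr := Subgroup.card_le_of_le hrange
  -- the fixed points have order less than 8
  have hlt : Nat.card K < 8 := by
    by_contra h8
    let K' : Subgroup L := K.map (MulAut.conj c).toMonoidHom
    have hK'M : K' ≤ M := by
      rintro _ ⟨x, hx, rfl⟩
      exact Subgroup.Normal.conj_mem ‹_› x hx.1 c
    have hK' : Nat.card K' = Nat.card K := Subgroup.card_map_of_injective (MulEquiv.injective _)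
    have e1 := card_mul_relIndex_of_le K M inf_le_left
    have e2 := card_mul_relIndex_of_le K' M hK'M
    have e3 := card_mul_relIndex_of_le (K ⊓ K') M (inf_le_left.trans inf_le_left)
    have e4 : (K ⊓ K').relIndex M ≤ K.relIndex M * K'.relIndex M := Subgroup.relIndex_inf_le
    have e5 : Nat.card ↥(K ⊓ K') ≠ 1 := by
      intro h1
      rw [hK'] at e2
      rw [h1, one_mul] at e3
      rw [hc16] at e1 e2 e3
      nlinarith
    have hbot : K ⊓ K' = ⊥ := by
      rw [eq_bot_iff]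
      rintro x ⟨hx, ⟨x', hx', hxx⟩⟩
      apply Subgroup.mem_bot.2
      have hxM : x ∈ M := hx.1
      apply hfix x hxM
      have ha1 : Commute a x := (Subgroup.mem_centralizer_singleton_iff.1 hx.2).symm
      have ha2 : Commute (c * a * c⁻¹) x := by
        rw [← hxx]
        exact Commute.map (Subgroup.mem_centralizer_singleton_iff.1 hx'.2).symm (MulAut.conj c).toMonoidHom
      have hq1 := hQM _ h.inverts x hxM
      have hq2 : Commute (c⁻¹ * (a * a) * c⁻¹⁻¹) x := hQM _ (h.normal.conj_mem _ h.a_sq c⁻¹) x hxM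
      have h3 : Commute ((c⁻¹ * (a * a) * c⁻¹⁻¹)⁻¹ * (a * c * a⁻¹ * c)⁻¹ * (a * (c * a * c⁻¹))) x :=
        (hq2.inv_left.mul_left hq1.inv_left).mul_left (ha1.mul_left ha2)
      have h4 : Commute (c⁻¹ * c⁻¹) x := by
        convert h3 using 1
        group
      have h5 := h4.pow_left 2
      have h6 : (c⁻¹ * c⁻¹) ^ 2 = c := by
        calc (c⁻¹ * c⁻¹) ^ 2 = (c ^ 5)⁻¹ * c := by group
          _ = c := by rw [h.c_pow, inv_one, one_mul]
      rwa [h6] at h5
    exact e5 (by rw [hbot, Subgroup.card_bot])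
  obtain ⟨j, hj⟩ := h.card_eq_pow (M := K) (inf_le_left.trans hMQ)
  have hK4 : Nat.card K = 4 := by
    rw [hj] at hlt hcard hr ⊢
    have hj3 : j < 3 := (Nat.pow_lt_pow_iff_right (by norm_num)).1 (show 2 ^ j < 2 ^ 3 by norm_num; exact hlt)
    interval_cases j <;> norm_num at * <;> nlinarith
  refine ⟨hK4, fun x hx hax => ?_⟩
  have heq : f.range = K := Subgroup.eq_of_le_of_card_ge hrange (by rw [hK4] at hcard ⊢; omega)
  have hxK : x ∈ K := ⟨hx, Subgroup.mem_centralizer_singleton_iff.2 hax.eq.symm⟩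
  rw [← heq] at hxK
  obtain ⟨y, rfl⟩ := hxK
  exact ⟨y, y.2, rfl⟩

/-- `d` fixes at most four elements of such a section. -/
theorem d_fix (h : Acts Q c d a) {M : Subgroup L} [M.Normal] (hMQ : M ≤ Q)
    (hQM : ∀ q ∈ Q, ∀ x ∈ M, Commute q x) (hM : ∀ x ∈ M, x * x = 1)
    (hmove : ∃ x ∈ M, ¬ Commute c x) : Nat.card ↥(M ⊓ Subgroup.centralizer {d}) ≤ 4 := by
  haveI : Fact (Nat.Prime 3) := ⟨Nat.prime_three⟩
  obtain ⟨hc16, -, -⟩ := h.moved hMQ hM hmove
  obtain ⟨j, hj⟩ := h.card_eq_pow (M := M ⊓ Subgroup.centralizer {d}) (inf_le_left.trans hMQ)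
  have hlt : Nat.card ↥(M ⊓ Subgroup.centralizer {d}) < Nat.card M := by
    refine lt_of_le_of_ne (Subgroup.card_le_of_le inf_le_left) fun e => ?_
    obtain ⟨x, hx, hxc⟩ := hmove
    have he := Subgroup.eq_of_le_of_card_ge inf_le_left (le_of_eq e.symm)
    refine hxc (h.fix_all hQM h.d_nmem (fun y hy => ?_) c x hx)
    rw [← he] at hy
    exact (Subgroup.mem_centralizer_singleton_iff.1 hy.2).symm
  have hmod := card_modEq_fixed h.d_pow (M : Set L) fun x hx => Subgroup.Normal.conj_mem ‹_› x hx d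
  rw [card_fixed_eq, hj] at hmod
  change Nat.card M % 3 = 2 ^ j % 3 at hmod
  rw [hc16] at hmod hlt
  rw [hj] at hlt ⊢
  have hj4 : j < 4 := (Nat.pow_lt_pow_iff_right (by norm_num)).1 (show 2 ^ j < 2 ^ 4 by norm_num; exact hlt)
  interval_cases j <;> simp_all

end Acts

/-- No elementary central `F` of order 16 below an elementary layer moved by `c`, with `a² ∈ F`. -/
theorem false_of_sixteen_aux (h : Acts Q c d a) {F : Subgroup L} [F.Normal] (hFQ : F ≤ Q)
    (hF2 : ∀ x ∈ F, x * x = 1) (hQF : ∀ q ∈ Q, ∀ x ∈ F, Commute q x)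
    (hF : ∃ x ∈ F, ¬ Commute c x) (hsq : ∀ x ∈ Q, x * x ∈ F)
    (hmove : ∃ x ∈ Q, c * x * c⁻¹ * x⁻¹ ∉ F) (ha : a * a ∈ F) : False := by
  set q := QuotientGroup.mk' F
  have hq := h.quot F hFQ
  haveI := hq.normal
  have hq1 : ∀ x : L, q x = 1 ↔ x ∈ F := fun x => QuotientGroup.eq_one_iff x
  have hM2 : ∀ v ∈ Q.map q, v * v = 1 := by
    rintro _ ⟨x, hx, rfl⟩
    rw [← map_mul, hq1]
    exact hsq x hx
  have hQM : ∀ v ∈ Q.map q, ∀ w ∈ Q.map q, Commute v w := fun v hv w hw => commute_of_sq hM2 hv hw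
  have hmove' : ∃ v ∈ Q.map q, ¬ Commute (q c) v := by
    obtain ⟨x, hx, hxc⟩ := hmove
    refine ⟨q x, ⟨x, hx, rfl⟩, fun hcom => hxc ((hq1 _).1 ?_)⟩
    simp only [map_mul, map_inv, hcom.eq]
    group
  obtain ⟨hUbar', himg⟩ := hq.a_fix le_rfl hQM hM2 hmove'
  have hUbar : Nat.card ↥(Q.map q ⊓ Subgroup.centralizer {q a}) = 4 := hUbar'
  obtain ⟨hD4, hDimg⟩ := h.a_fix hFQ hQF hF2 hF
  obtain ⟨hF16, -, -⟩ := h.moved hFQ hF2 hF
  set U : Subgroup L := Q ⊓ (Subgroup.centralizer {q a}).comap q with hU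
  have hUmem : ∀ x, x ∈ U ↔ x ∈ Q ∧ Commute (q a) (q x) := fun x => by
    simp only [hU, Subgroup.mem_inf, Subgroup.mem_comap, Subgroup.mem_centralizer_singleton_iff]
    exact and_congr Iff.rfl ⟨fun e => e.symm, fun e => e.eq.symm⟩
  have hFU : F ≤ U := fun x hx => (hUmem x).2 ⟨hFQ hx, by rw [(hq1 x).2 hx]; exact Commute.one_right _⟩
  have hUmap : U.map q = Q.map q ⊓ Subgroup.centralizer {q a} := by
    apply le_antisymm
    · exact le_inf (Subgroup.map_mono inf_le_left) (Subgroup.map_le_iff_le_comap.2 inf_le_right)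
    · rintro _ ⟨⟨x, hx, rfl⟩, hc⟩
      exact ⟨x, ⟨hx, hc⟩, rfl⟩
  have hU64 : Nat.card U = 64 := by
    rw [← card_map_mul F U hFU, hF16, hUmap, hUbar]
  set D := F ⊓ Subgroup.centralizer {a} with hD
  have hDmem : ∀ x ∈ F, a * x * a⁻¹ = x → x ∈ D := fun x hx e =>
    ⟨hx, Subgroup.mem_centralizer_singleton_iff.2 (mul_inv_eq_iff_eq_mul.1 e).symm⟩
  have hconjF : ∀ x ∈ F, a * x * a⁻¹ ∈ F := fun x hx => Subgroup.Normal.conj_mem ‹_› x hx a
  have hDn : ∀ n ∈ F, n * (a * n * a⁻¹) ∈ D := by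
    intro n hn
    refine hDmem _ (F.mul_mem hn (hconjF n hn)) ?_
    rw [show a * (n * (a * n * a⁻¹)) * a⁻¹ = (a * n * a⁻¹) * ((a * a) * n * (a * a)⁻¹) by group,
      (commute_of_sq hF2 ha hn).eq, mul_inv_cancel_right, (commute_of_sq hF2 hn (hconjF n hn)).eq]
  -- conjugation by `a` moves elements of `U` only inside `F`
  have he : ∀ x ∈ U, a * x * a⁻¹ * x⁻¹ ∈ F := by
    intro x hx
    refine (hq1 _).1 ?_
    simp only [map_mul, map_inv, ((hUmem x).1 hx).2.eq]
    group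
  have hUsq : ∀ x ∈ U, x * x ∈ D := by
    intro x hx
    refine hDmem _ (hsq x ((hUmem x).1 hx).1) ?_
    have h1 : a * (x * x) * a⁻¹ = (a * x * a⁻¹ * x⁻¹) * x * ((a * x * a⁻¹ * x⁻¹) * x) := by group
    rw [h1]
    generalize hw : a * x * a⁻¹ * x⁻¹ = w
    have hwF : w ∈ F := hw ▸ he x hx
    rw [show w * x * (w * x) = w * (x * w) * x by group, (hQF x ((hUmem x).1 hx).1 w hwF).eq,
      show w * (w * x) * x = (w * w) * (x * x) by group, hF2 w hwF, one_mul]
  have hUcomm : ∀ x ∈ U, ∀ y ∈ U, x * y * x⁻¹ * y⁻¹ ∈ D := by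
    intro x hx y hy
    have hxQ := ((hUmem x).1 hx).1
    have hyQ := ((hUmem y).1 hy).1
    have hF' : x * y * x⁻¹ * y⁻¹ ∈ F := by
      refine (hq1 _).1 ?_
      simp only [map_mul, map_inv, (hQM _ ⟨x, hxQ, rfl⟩ _ ⟨y, hyQ, rfl⟩).eq]
      group
    refine hDmem _ hF' ?_
    have h1 : a * (x * y * x⁻¹ * y⁻¹) * a⁻¹ = (a * x * a⁻¹ * x⁻¹ * x) * (a * y * a⁻¹ * y⁻¹ * y) *
        (a * x * a⁻¹ * x⁻¹ * x)⁻¹ * (a * y * a⁻¹ * y⁻¹ * y)⁻¹ := by group
    rw [h1]
    generalize hw : a * x * a⁻¹ * x⁻¹ = w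
    generalize hv : a * y * a⁻¹ * y⁻¹ = v
    have hwF : w ∈ F := hw ▸ he x hx
    have hvF : v ∈ F := hv ▸ he y hy
    have c1 : Commute x v := hQF x hxQ v hvF
    have c2 : Commute y w := hQF y hyQ w hwF
    have c3 : Commute w x := (hQF x hxQ w hwF).symm
    have c4 : Commute v y := (hQF y hyQ v hvF).symm
    have c5 : Commute w v := commute_of_sq hF2 hwF hvF
    have cA : Commute w (v * y) := c5.mul_right c2.symm
    calc w * x * (v * y) * (w * x)⁻¹ * (v * y)⁻¹
        = w * (x * (v * y) * x⁻¹) * w⁻¹ * y⁻¹ * v⁻¹ := by group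
      _ = w * (v * (x * y * x⁻¹)) * w⁻¹ * y⁻¹ * v⁻¹ := by
          rw [show x * (v * y) * x⁻¹ = x * v * (y * x⁻¹) by group, c1.eq]; group
      _ = (v * (x * y * x⁻¹)) * y⁻¹ * v⁻¹ := by
          have cB : Commute w (v * (x * y * x⁻¹)) :=
            c5.mul_right ((c3.mul_right c2.symm).mul_right c3.inv_right)
          rw [cB.eq, mul_inv_cancel_right]
      _ = x * y * x⁻¹ * y⁻¹ := by
          rw [show v * (x * y * x⁻¹) * y⁻¹ * v⁻¹ = v * (x * y * x⁻¹ * y⁻¹) * v⁻¹ by group,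
            (commute_of_sq hF2 hvF hF').eq, mul_inv_cancel_right]
  have hUa : ∀ x ∈ U, a * x * a⁻¹ * x⁻¹ ∈ D := by
    intro x hx
    obtain ⟨hxQ, hxa⟩ := (hUmem x).1 hx
    obtain ⟨_, ⟨y, hy, rfl⟩, hxy⟩ := himg (q x) ⟨x, hxQ, rfl⟩ hxa
    set z := y * (a * y * a⁻¹) with hz
    have hY : a * y * a⁻¹ ∈ Q := h.normal.conj_mem y hy a
    have hzQ : z ∈ Q := Q.mul_mem hy hY
    have hqz : q x = q z := by rw [hxy, hz]; simp [q]
    have hw : z⁻¹ * x ∈ F := (hq1 _).1 (by rw [map_mul, map_inv, hqz, inv_mul_cancel])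
    have hzU : z ∈ U := (hUmem z).2 ⟨hzQ, hqz ▸ hxa⟩
    set w := z⁻¹ * x
    have hxzw : x = z * w := by simp [w]
    have haz : a * z * a⁻¹ = (a * y * a⁻¹) * y := by
      rw [hz, show a * (y * (a * y * a⁻¹)) * a⁻¹ = (a * y * a⁻¹) * ((a * a) * y * (a * a)⁻¹) by group,
        (hQF y hy _ ha).symm.eq, mul_inv_cancel_right]
    have h1 : a * z * a⁻¹ * z ∈ D := by
      have e : a * z * a⁻¹ * z = (y * y) * (a * (y * y) * a⁻¹) := by
        rw [haz, hz, show (a * y * a⁻¹) * y * (y * (a * y * a⁻¹)) =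
          (a * y * a⁻¹) * (y * y) * (a * y * a⁻¹) by group, (hQF _ hY _ (hsq y hy)).eq]
        group
      rw [e]
      exact hDn _ (hsq y hy)
    have h2 : a * z * a⁻¹ * z⁻¹ ∈ D := by
      rw [show a * z * a⁻¹ * z⁻¹ = (a * z * a⁻¹ * z) * (z * z)⁻¹ by group]
      exact D.mul_mem h1 (D.inv_mem (hUsq z hzU))
    have h3 : a * w * a⁻¹ * w⁻¹ ∈ D := by
      rw [inv_eq_of_mul_eq_one_right (hF2 w hw), (commute_of_sq hF2 (hconjF w hw) hw).eq]
      exact hDn w hw
    have e : a * x * a⁻¹ * x⁻¹ = (a * z * a⁻¹ * z⁻¹) * (a * w * a⁻¹ * w⁻¹) := by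
      rw [hxzw, show a * (z * w) * a⁻¹ * (z * w)⁻¹ =
        (a * z * a⁻¹) * ((a * w * a⁻¹) * w⁻¹) * z⁻¹ by group,
        mul_assoc (a * z * a⁻¹) _ z⁻¹,
        ← (hQF _ (Q.inv_mem hzQ) _ (F.mul_mem (hconjF w hw) (F.inv_mem hw))).eq]
      group
    rw [e]
    exact D.mul_mem h2 h3
  have hDa : ∀ x ∈ D, Commute a x := fun x hx => (Subgroup.mem_centralizer_singleton_iff.1 hx.2).symm
  have hDinv : ∀ {x : L}, x ∈ D → x⁻¹ ∈ D := fun hx => D.inv_mem hx
  have hsec : IsElemSection 2 D (Subgroup.closure ((U : Set L) ∪ {a})) := by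
    refine isElemSection_closure ?_ ?_ ?_ ?_
    · exact fun x hx => Subgroup.subset_closure (Or.inl (hFU hx.1))
    · rintro s (hs | hs) x hx
      · exact hQF s ((hUmem s).1 hs).1 x hx.1
      · rw [Set.mem_singleton_iff.1 hs]; exact hDa x hx
    · rintro s (hs | hs) t (ht | ht)
      · exact hUcomm s hs t ht
      · rw [Set.mem_singleton_iff.1 ht]
        simpa [mul_assoc] using D.inv_mem (hUa s hs)
      · rw [Set.mem_singleton_iff.1 hs]; exact hUa t ht
      · rw [Set.mem_singleton_iff.1 hs, Set.mem_singleton_iff.1 ht]; simp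
    · rintro s (hs | hs)
      · exact hUsq s hs
      · rw [Set.mem_singleton_iff.1 hs]
        exact hDmem _ ha (by group)
  set H := Subgroup.closure ((U : Set L) ∪ {a})
  have hUH : U ≤ H := fun x hx => Subgroup.subset_closure (Or.inl hx)
  have haU : a ∉ U := fun hh => h.a_nmem ((hUmem a).1 hh).1
  have hlt : U.relIndex H ≠ 1 := fun e =>
    haU (Subgroup.relIndex_eq_one.1 e (Subgroup.subset_closure (Or.inr rfl)))
  have hH := card_mul_relIndex_of_le U H hUH
  have hpos : 0 < U.relIndex H := by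
    by_contra h0
    rw [Nat.eq_zero_of_not_pos h0, mul_zero] at hH
    exact absurd hH.symm (Nat.card_pos).ne'
  have hDH := card_mul_relIndex_of_le D H hsec.le
  have h16 : D.relIndex H ≤ 16 := hsec.relIndex_le h.rank
  rw [hU64] at hH
  rw [hD4] at hDH
  omega

/-- No elementary central `F` of order 16 below an elementary layer moved by `c`. -/
theorem false_of_sixteen (h : Acts Q c d a) {F : Subgroup L} [F.Normal] (hFQ : F ≤ Q)
    (hF2 : ∀ x ∈ F, x * x = 1) (hQF : ∀ q ∈ Q, ∀ x ∈ F, Commute q x)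
    (hF : ∃ x ∈ F, ¬ Commute c x) (hsq : ∀ x ∈ Q, x * x ∈ F)
    (hmove : ∃ x ∈ Q, c * x * c⁻¹ * x⁻¹ ∉ F) : False := by
  set q := QuotientGroup.mk' F
  have hq := h.quot F hFQ
  haveI := hq.normal
  have hq1 : ∀ x : L, q x = 1 ↔ x ∈ F := fun x => QuotientGroup.eq_one_iff x
  have hM2 : ∀ v ∈ Q.map q, v * v = 1 := by
    rintro _ ⟨x, hx, rfl⟩
    rw [← map_mul, hq1]
    exact hsq x hx
  have hmove' : ∃ v ∈ Q.map q, ¬ Commute (q c) v := by
    obtain ⟨x, hx, hxc⟩ := hmove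
    refine ⟨q x, ⟨x, hx, rfl⟩, fun hcom => hxc ((hq1 _).1 ?_)⟩
    simp only [map_mul, map_inv, hcom.eq]
    group
  obtain ⟨-, himg⟩ := hq.a_fix le_rfl (fun v hv w hw => commute_of_sq hM2 hv hw) hM2 hmove'
  obtain ⟨_, ⟨y, hy, rfl⟩, hxy⟩ := himg (q (a * a)) ⟨_, h.a_sq, rfl⟩ (by
    show Commute (q a) (q (a * a))
    rw [map_mul]
    exact (Commute.refl _).mul_right (Commute.refl _))
  refine false_of_sixteen_aux (h.adjust hy) hFQ hF2 hQF hF hsq hmove ((hq1 _).1 ?_)
  have h1 : q y * q a * (q y * q a) = q y * (q a * q y * (q a)⁻¹) * q (a * a) := by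
    rw [map_mul]; group
  rw [map_mul, map_mul, h1]
  change q y * (q a * q y * (q a)⁻¹) * q (a * a) = 1
  change q (a * a) = q y * (q a * q y * (q a)⁻¹) at hxy
  rw [← hxy]
  exact hM2 _ ⟨_, h.a_sq, rfl⟩

end Cfsg.Agent.Lib.RadicalFive
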