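import Mathlib
import Cfsg.Agent.Lib.Extraspecial.SquareCount
import Cfsg.Agent.Lib.TwoRankInter.Main
import Cfsg.Agent.Lib.Resistant.GenExtraSplit
import Cfsg.Agent.Lib.MinusThirtyTwo.Basic

/-!
An extraspecial group of order 32 whose number of square roots of one is not 20 is `Q₈ ∗ D₈`.
(Written by helper38.)
-/

set_option autoImplicit false

namespace Cfsg.Agent.Lib.RadicalFive

open scoped commutatorElement
open ExtraStruct

universe u v

/-- The conclusion: a central product of a quaternion and a dihedral group of order eight. -/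
def IsQuatDih (P : Type u) [Group P] : Prop :=
  ∃ A B : Subgroup P, Nonempty (↥A ≃* QuaternionGroup 2) ∧ Nonempty (↥B ≃* DihedralGroup 4) ∧
    (∀ a ∈ A, ∀ b ∈ B, a * b = b * a) ∧ A ⊔ B = ⊤ ∧ A ⊓ B = Subgroup.center P

theorem IsQuatDih.map {P : Type u} {P' : Type v} [Group P] [Group P'] (e : P ≃* P')
    (h : IsQuatDih P) : IsQuatDih P' := by
  obtain ⟨A, B, ⟨eA⟩, ⟨eB⟩, hc, hs, hi⟩ := h
  refine ⟨A.map e.toMonoidHom, B.map e.toMonoidHom,
    ⟨(A.equivMapOfInjective _ e.injective).symm.trans eA⟩,
    ⟨(B.equivMapOfInjective _ e.injective).symm.trans eB⟩, ?_, ?_, ?_⟩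
  · rintro _ ⟨a, ha, rfl⟩ _ ⟨b, hb, rfl⟩
    rw [← map_mul, ← map_mul, hc a ha b hb]
  · rw [← Subgroup.map_sup, hs, Subgroup.map_top_of_surjective _ e.surjective]
  · rw [← Subgroup.map_inf _ _ _ e.injective, hi]
    ext y
    obtain ⟨x, rfl⟩ := e.surjective y
    rw [Subgroup.mem_map_equiv, MulEquiv.symm_apply_apply, Subgroup.mem_center_iff,
      Subgroup.mem_center_iff]
    exact ⟨fun hx g => by obtain ⟨g, rfl⟩ := e.surjective g; rw [← map_mul, ← map_mul, hx g],
      fun hx g => e.injective (by rw [map_mul, map_mul]; exact hx (e g))⟩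

theorem isQuatDih_of_extra {P : Type u} [Group P] [Finite P] (h : ExtraLike 2 P)
    (h32 : Nat.card P = 32) (hne : Nat.card {g : P // g ^ 2 = 1} ≠ 20) : IsQuatDih P := by
  classical
  haveI : Fact (Nat.Prime 2) := ⟨Nat.prime_two⟩
  obtain ⟨x, y, hxy, hx, hy⟩ := exists_pair_involutions h (hasInvolution_of_card h (by omega))
  set C := Subgroup.centralizer ({x, y} : Set P) with hC
  have hC8 : Nat.card C = 8 := by
    have := card_eq_mul h hxy
    rw [h32] at this
    change 32 = 2 ^ 2 * Nat.card C at this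
    omega
  have hEC : ExtraLike 2 C := extraLike_centralizer h hxy
  -- the centraliser has no involution outside its centre
  have hno : ¬ HasInvolution C := by
    intro hi
    obtain ⟨u, w, huw, hu, hw⟩ := exists_pair_involutions hEC hi
    have h2 : Nat.card ↥(Subgroup.centralizer ({u, w} : Set C)) = 2 := by
      have := card_eq_mul hEC huw
      rw [hC8] at this
      omega
    have h2' : Nat.card {g : ↥(Subgroup.centralizer ({u, w} : Set C)) // g ^ 2 = 1} = 2 := by
      rw [Nat.card_congr (Equiv.subtypeUnivEquiv fun g => ?_), h2]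
      rw [← h2]
      exact pow_card_eq_one'
    refine hne ?_
    rw [card_sq_one_step h hxy hx hy, card_sq_one_step hEC huw hu hw, h2', h2, hC8]
  obtain ⟨eC⟩ : Nonempty (C ≃* QuaternionGroup 2) := by
    rcases TwoRankInter.isCyclic_or_quaternion_of_unique
      (U := C) (IsPGroup.of_card (n := 3) (by rw [hC8]; rfl)) (fun a b ha hb => by
        have key : ∀ g : C, orderOf g = 2 → g ∈ Subgroup.center C ∧ g ≠ 1 := by
          intro g hg
          refine ⟨?_, fun e => by rw [e, orderOf_one] at hg; omega⟩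
          by_contra hgc
          exact hno ⟨g, hgc, by rw [← hg]; exact pow_orderOf_eq_one g⟩
        exact eq_of_mem_center_two hEC (key a ha).1 (key a ha).2 (key b hb).1 (key b hb).2) with hcy | ⟨n, ⟨e⟩⟩
    · haveI := hcy
      letI := IsCyclic.commGroup (α := C)
      have htop : Subgroup.center C = ⊤ :=
        eq_top_iff.2 fun g _ => Subgroup.mem_center_iff.2 fun k => mul_comm k g
      have := hEC.card_center
      rw [htop, Subgroup.card_top, hC8] at this
      omega
    · have hcard := Nat.card_congr e.toEquiv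
      haveI : NeZero (2 ^ n) := ⟨(Nat.two_pow_pos n).ne'⟩
      rw [hC8, Nat.card_eq_fintype_card, QuaternionGroup.card] at hcard
      have h2n : 2 ^ n = 2 := by omega
      rw [h2n] at e
      exact ⟨e⟩
  set B := Subgroup.closure ({x, y} : Set P) with hB
  have hxB : x ∈ B := Subgroup.subset_closure (Set.mem_insert _ _)
  have hyB : y ∈ B := Subgroup.subset_closure (Set.mem_insert_of_mem _ rfl)
  have hzB : ⁅x, y⁆ ∈ B := by
    rw [commutatorElement_def]
    exact B.mul_mem (B.mul_mem (B.mul_mem hxB hyB) (B.inv_mem hxB)) (B.inv_mem hyB)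
  have hxx : x * x = 1 := by rw [← pow_two]; exact hx
  have hyy : y * y = 1 := by rw [← pow_two]; exact hy
  have hzc := Subgroup.mem_center_iff.1 (h.comm_mem x y)
  have hz2 : ⁅x, y⁆ * ⁅x, y⁆ = 1 := by
    rw [← pow_two, ← orderOf_eq_of_mem_center h (h.comm_mem x y) hxy]
    exact pow_orderOf_eq_one _
  -- `B` has order eight
  have hB8 : Nat.card B = 8 := by
    have hle : Nat.card B ≤ 8 := by
      have hsub : B ≤ (Subgroup.zpowers ⁅x, y⁆ ⊔ Subgroup.zpowers x) ⊔ Subgroup.zpowers y := by
        rw [hB, Subgroup.closure_le]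
        rintro g (rfl | rfl)
        · exact Subgroup.mem_sup_left (Subgroup.mem_sup_right (Subgroup.mem_zpowers _))
        · exact Subgroup.mem_sup_right (Subgroup.mem_zpowers _)
      refine (Subgroup.card_le_of_le hsub).trans ?_
      have h1 : Nat.card (Subgroup.zpowers ⁅x, y⁆) = 2 := by
        rw [Nat.card_zpowers]; exact orderOf_eq_of_mem_center h (h.comm_mem x y) hxy
      have hN : ∀ (g : P), ∀ k ∈ Subgroup.zpowers ⁅x, y⁆, g * k * g⁻¹ ∈ Subgroup.zpowers ⁅x, y⁆ := by
        intro g k hk
        have hkc : k ∈ Subgroup.center P :=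
          (Subgroup.zpowers_le.2 (h.comm_mem x y)) hk
        rwa [Subgroup.mem_center_iff.1 hkc g, mul_inv_cancel_right]
      have h2 := MinusThirtyTwo.card_sup_le (Subgroup.zpowers ⁅x, y⁆) hxx (hN x)
      have h3 := MinusThirtyTwo.card_sup_le (Subgroup.zpowers ⁅x, y⁆ ⊔ Subgroup.zpowers x) hyy ?_
      · omega
      intro k hk
      have hle' : Subgroup.zpowers ⁅x, y⁆ ⊔ Subgroup.zpowers x ≤
          (Subgroup.zpowers ⁅x, y⁆ ⊔ Subgroup.zpowers x).comap (MulAut.conj y).toMonoidHom := by
        refine sup_le (fun g hg => Subgroup.mem_sup_left (hN y g hg)) (Subgroup.zpowers_le.2 ?_)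
        rw [Subgroup.mem_comap]
        show y * x * y⁻¹ ∈ _
        have : y * x * y⁻¹ = ⁅x, y⁆⁻¹ * x := by rw [commutatorElement_def]; group
        rw [this]
        exact Subgroup.mul_mem_sup (Subgroup.inv_mem _ (Subgroup.mem_zpowers _)) (Subgroup.mem_zpowers x)
      exact hle' hk
    obtain ⟨k, -, hk⟩ := (Nat.dvd_prime_pow Nat.prime_two).1
      (show Nat.card B ∣ 2 ^ 5 by rw [show (2 : ℕ) ^ 5 = 32 from rfl, ← h32]; exact B.card_subgroup_dvd_card)
    have hge : 2 < k := by
      by_contra hk2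
      have hab : ∀ u v : B, u * v = v * u := by
        interval_cases k
        · haveI : Subsingleton B := (Nat.card_eq_one_iff_unique.1 (by simpa using hk)).1
          exact fun u v => Subsingleton.elim _ _
        · haveI : IsCyclic B := isCyclic_of_prime_card (p := 2) (by simpa using hk)
          letI := IsCyclic.commGroup (α := B)
          exact mul_comm
        · letI := IsPGroup.commGroupOfCardEqPrimeSq (p := 2) (G := B) (by simpa using hk)
          exact mul_comm
      exact hxy (commutatorElement_eq_one_iff_mul_comm.2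
        (congrArg Subtype.val (hab ⟨x, hxB⟩ ⟨y, hyB⟩)))
    rw [hk] at hle ⊢
    have hk3 : k ≤ 3 := (Nat.pow_le_pow_iff_right (by norm_num)).1 (show 2 ^ k ≤ 2 ^ 3 by norm_num; exact hle)
    rw [show k = 3 by omega]
    rfl
  obtain ⟨eB⟩ := Resistant.nonempty_dihedral (K := B) hB8 ⟨x, hxB⟩ ⟨y, hyB⟩ (Subtype.ext hxx)
    (Subtype.ext hyy) (fun e => hxy (commutatorElement_eq_one_iff_mul_comm.2 (congrArg Subtype.val e)))
  have hCB : ∀ a ∈ C, ∀ b ∈ B, a * b = b * a := by
    intro a ha b hb
    have hle : B ≤ Subgroup.centralizer ({a} : Set P) := by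
      rw [hB, Subgroup.closure_le]
      intro g hg
      rw [SetLike.mem_coe, Subgroup.mem_centralizer_singleton_iff]
      exact Subgroup.mem_centralizer_iff.1 ha g hg
    exact (Subgroup.mem_centralizer_singleton_iff.1 (hle hb)).symm
  refine ⟨C, B, ⟨eC⟩, ⟨eB⟩, hCB, ?_, ?_⟩
  · refine eq_top_iff.2 fun g _ => ?_
    obtain ⟨i, j, k, hk, rfl⟩ := exists_decomp h hxy g
    exact mul_mem (Subgroup.mem_sup_right (mul_mem (B.zpow_mem hyB j) (B.zpow_mem hxB i)))
      (Subgroup.mem_sup_left hk)
  · refine le_antisymm (fun g hg => ?_) (fun g hg => ⟨center_le_centralizer x y hg, ?_⟩)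
    · rw [Subgroup.mem_center_iff]
      intro p
      obtain ⟨i, j, k, hk, rfl⟩ := exists_decomp h hxy p
      have c1 : Commute g y := hCB g hg.1 y hyB
      have c2 : Commute g x := hCB g hg.1 x hxB
      have c3 : Commute g k := (hCB k hk g hg.2).symm
      exact (((c1.zpow_right j).mul_right (c2.zpow_right i)).mul_right c3).eq.symm
    · rw [← zpowers_eq_center h (h.comm_mem x y) hxy] at hg
      exact Subgroup.zpowers_le.2 hzB hg

end Cfsg.Agent.Lib.RadicalFive
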