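import Mathlib
import Cfsg.Agent.Lib.RadicalFive.Basic
import Cfsg.Agent.Lib.Core.Nilpotent
import Cfsg.Agent.Lib.Extraspecial.SquareCount

/-!
The layer `F = Φ(Q)` has order 2 when `L/Q` acts as in `Acts`.  (Written by helper38.)
-/

set_option autoImplicit false

namespace Cfsg.Agent.Lib.RadicalFive

open scoped commutatorElement
open Cfsg.Agent.Lib.SectRank (card_mul_relIndex_of_le)

universe u

/-- `F` behaves as the Frattini subgroup of `Q`, and `c` moves `Q / F`. -/
structure Top {L : Type u} [Group L] (Q F : Subgroup L) (c : L) : Prop where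
  le : F ≤ Q
  normal : F.Normal
  sq : ∀ x ∈ Q, x * x ∈ F
  moves : ∃ x ∈ Q, c * x * c⁻¹ * x⁻¹ ∉ F
  full : ∀ R : Subgroup L, R.Normal → (∀ x ∈ Q, x * x ∈ R) → F ≤ R

variable {L : Type u} [Group L] [Finite L] {Q F : Subgroup L} {c d a : L}

omit [Finite L] in
theorem Top.quot (t : Top Q F c) (R : Subgroup L) [R.Normal] (hR : R ≤ F) :
    Top (Q.map (QuotientGroup.mk' R)) (F.map (QuotientGroup.mk' R)) (c : L ⧸ R) where
  le := Subgroup.map_mono t.le
  normal := t.normal.map _ (QuotientGroup.mk'_surjective R)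
  sq := by
    rintro _ ⟨x, hx, rfl⟩
    exact ⟨x * x, t.sq x hx, map_mul _ _ _⟩
  moves := by
    obtain ⟨x, hx, hxc⟩ := t.moves
    exact ⟨_, ⟨x, hx, rfl⟩, fun hh => hxc ((mk_mem_map_iff hR _).1 hh)⟩
  full K hK hsq := by
    refine Subgroup.map_le_iff_le_comap.2 (t.full _ (hK.comap _) fun x hx => ?_)
    rw [Subgroup.mem_comap, map_mul]
    exact hsq _ ⟨x, hx, rfl⟩

/-- Two non-identity elements of a subgroup of order two coincide. -/
theorem eq_of_card_two {L : Type u} [Group L] [Finite L] {K : Subgroup L} (hK : Nat.card K = 2)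
    {x y : L} (hx : x ∈ K) (hy : y ∈ K) (hx1 : x ≠ 1) (hy1 : y ≠ 1) : x = y := by
  classical
  by_contra hne
  haveI := Fintype.ofFinite K
  have h3 : ({1, ⟨x, hx⟩, ⟨y, hy⟩} : Finset K).card = 3 := Finset.card_eq_three.2
    ⟨1, ⟨x, hx⟩, ⟨y, hy⟩, fun e => hx1 (congrArg Subtype.val e).symm,
      fun e => hy1 (congrArg Subtype.val e).symm, fun e => hne (congrArg Subtype.val e), rfl⟩
  have := Finset.card_le_univ ({1, ⟨x, hx⟩, ⟨y, hy⟩} : Finset K)
  rw [h3, ← Nat.card_eq_fintype_card, hK] at this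
  omega

/-- A maximal normal subgroup strictly below a nontrivial normal subgroup. -/
theorem exists_below (F : Subgroup L) (hF : F ≠ ⊥) :
    ∃ R : Subgroup L, R.Normal ∧ R < F ∧ ∀ S : Subgroup L, S.Normal → R < S → S ≤ F → S = F := by
  obtain ⟨R, ⟨hRn, hRF⟩, hmax⟩ := (Set.toFinite {R : Subgroup L | R.Normal ∧ R < F}).exists_maximal
    ⟨⊥, inferInstance, bot_lt_iff_ne_bot.2 hF⟩
  refine ⟨R, hRn, hRF, fun S hS hRS hSF => ?_⟩
  by_contra hne
  exact absurd (hmax ⟨hS, lt_of_le_of_ne hSF hne⟩ hRS.le) hRS.not_ge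

/-- The image of `F` modulo a maximal normal subgroup below is minimal normal. -/
theorem minimal_quot {R F : Subgroup L} [R.Normal] (hRF : R < F)
    (hmax : ∀ S : Subgroup L, S.Normal → R < S → S ≤ F → S = F) :
    F.map (QuotientGroup.mk' R) ≠ ⊥ ∧
      ∀ S : Subgroup (L ⧸ R), S.Normal → S ≠ ⊥ → S ≤ F.map (QuotientGroup.mk' R) →
        S = F.map (QuotientGroup.mk' R) := by
  refine ⟨fun e => ?_, fun S hS hS1 hSF => ?_⟩
  · rw [Subgroup.map_eq_bot_iff, QuotientGroup.ker_mk'] at e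
    exact hRF.not_ge e
  · have hle : R ≤ S.comap (QuotientGroup.mk' R) := fun x hx => by
      rw [Subgroup.mem_comap, QuotientGroup.mk'_apply, (QuotientGroup.eq_one_iff x).2 hx]
      exact S.one_mem
    have hlt : R < S.comap (QuotientGroup.mk' R) := by
      refine lt_of_le_of_ne hle fun e => hS1 ?_
      rw [← Subgroup.map_comap_eq_self_of_surjective (QuotientGroup.mk'_surjective R) S, ← e,
        Subgroup.map_eq_bot_iff, QuotientGroup.ker_mk']
    have hSF' : S.comap (QuotientGroup.mk' R) ≤ F := fun x hx =>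
      (mk_mem_map_iff hRF.le x).1 (hSF hx)
    rw [← hmax _ (hS.comap _) hlt hSF',
      Subgroup.map_comap_eq_self_of_surjective (QuotientGroup.mk'_surjective R)]

/-- A minimal normal subgroup inside `Q` is central in `Q`, elementary, and of order 2 or moved by `c`. -/
theorem minimal_facts (h : Acts Q c d a) [F.Normal] (hFQ : F ≤ Q) (hF : F ≠ ⊥)
    (hmin : ∀ S : Subgroup L, S.Normal → S ≠ ⊥ → S ≤ F → S = F) :
    (∀ q ∈ Q, ∀ x ∈ F, Commute q x) ∧ (∀ x ∈ F, x * x = 1) ∧
      (Nat.card F = 2 ∨ ∃ x ∈ F, ¬ Commute c x) := by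
  haveI := h.normal
  haveI : Fact (Nat.Prime 2) := ⟨Nat.prime_two⟩
  haveI := h.isTwo.isNilpotent
  have hFQ' : F.subgroupOf Q ≠ ⊥ := by
    rw [Ne, Subgroup.subgroupOf_eq_bot, disjoint_iff, inf_eq_left.2 hFQ]
    exact hF
  have hC : (F ⊓ Subgroup.centralizer (Q : Set L)) ≠ ⊥ := by
    obtain ⟨⟨x, hx⟩, hx1'⟩ := (Subgroup.ne_bot_iff_exists_ne_one).1
      (Nilp.inf_center_ne_bot_of_normal (G := Q) hFQ')
    have hx1 : x ≠ 1 := fun e => hx1' (Subtype.ext e)
    intro e
    have hm : (x : L) ∈ F ⊓ Subgroup.centralizer (Q : Set L) := by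
      refine ⟨Subgroup.mem_subgroupOf.1 hx.1, Subgroup.mem_centralizer_iff.2 fun q hq => ?_⟩
      exact congrArg Subtype.val (Subgroup.mem_center_iff.1 hx.2 ⟨q, hq⟩)
    rw [e, Subgroup.mem_bot] at hm
    exact hx1 (Subtype.ext hm)
  have hcent : ∀ q ∈ Q, ∀ x ∈ F, Commute q x := by
    have e := hmin _ inferInstance hC inf_le_left
    intro q hq x hx
    rw [← e] at hx
    exact Subgroup.mem_centralizer_iff.1 hx.2 q hq
  have hab : ∀ x ∈ F, ∀ y ∈ F, Commute x y := fun x hx y hy => hcent x (hFQ hx) y hy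
  let K : Subgroup L :=
    { carrier := {x | x ∈ F ∧ x * x = 1}
      one_mem' := ⟨F.one_mem, one_mul 1⟩
      mul_mem' := fun {x y} hx hy => ⟨F.mul_mem hx.1 hy.1, by
        rw [(hab y hy.1 x hx.1).mul_mul_mul_comm, hx.2, hy.2, one_mul]⟩
      inv_mem' := fun {x} hx => ⟨F.inv_mem hx.1, by rw [← mul_inv_rev, hx.2, inv_one]⟩ }
  have hK : K = F := by
    refine hmin K ⟨fun x hx g => ⟨Subgroup.Normal.conj_mem ‹_› x hx.1 g, ?_⟩⟩ ?_ (fun x hx => hx.1)
    · rw [show g * x * g⁻¹ * (g * x * g⁻¹) = g * (x * x) * g⁻¹ by group, hx.2]; group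
    · obtain ⟨k, hk⟩ := h.card_eq_pow hFQ
      have hk0 : k ≠ 0 := by
        rintro rfl
        exact hF (Subgroup.card_eq_one.1 (by rw [hk]; rfl))
      obtain ⟨x, hx⟩ := exists_prime_orderOf_dvd_card' (G := F) 2 (by rw [hk]; exact dvd_pow_self 2 hk0)
      intro e
      have hx2 : (x : L) * x = 1 := by
        have := pow_orderOf_eq_one x
        rw [hx, pow_two] at this
        exact congrArg Subtype.val this
      have hxK : (x : L) ∈ K := ⟨x.2, hx2⟩
      rw [e, Subgroup.mem_bot] at hxK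
      have : x = 1 := Subtype.ext hxK
      rw [this, orderOf_one] at hx
      norm_num at hx
  have hel : ∀ x ∈ F, x * x = 1 := fun x hx => by rw [← hK] at hx; exact hx.2
  refine ⟨hcent, hel, ?_⟩
  by_cases hm : ∃ x ∈ F, ¬ Commute c x
  · exact Or.inr hm
  · push Not at hm
    left
    have hall := h.fix_all hcent h.c_nmem hm
    obtain ⟨x, hx, hx1⟩ : ∃ x ∈ F, x ≠ 1 := by
      by_contra hh
      push Not at hh
      exact hF ((Subgroup.eq_bot_iff_forall F).2 hh)
    have hz : Subgroup.zpowers x = F := by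
      refine hmin _ ⟨fun y hy g => ?_⟩ (by rwa [Subgroup.zpowers_ne_bot]) (Subgroup.zpowers_le.2 hx)
      rwa [(hall g y (Subgroup.zpowers_le.2 hx hy)).eq, mul_inv_cancel_right]
    rw [← hz, Nat.card_zpowers]
    exact orderOf_eq_prime (by rw [pow_two, hel x hx]) hx1

omit [Finite L] in
theorem Top.quot_data (t : Top Q F c) [F.Normal] :
    (∀ v ∈ Q.map (QuotientGroup.mk' F), v * v = 1) ∧
      (∃ v ∈ Q.map (QuotientGroup.mk' F), ¬ Commute (c : L ⧸ F) v) := by
  refine ⟨?_, ?_⟩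
  · rintro _ ⟨x, hx, rfl⟩
    rw [← map_mul]
    exact (QuotientGroup.eq_one_iff _).2 (t.sq x hx)
  · obtain ⟨x, hx, hxc⟩ := t.moves
    refine ⟨_, ⟨x, hx, rfl⟩, fun hcom => hxc ((QuotientGroup.eq_one_iff _).1 ?_)⟩
    have hcom' : (c : L ⧸ F) * (x : L ⧸ F) = (x : L ⧸ F) * (c : L ⧸ F) := hcom.eq
    simp only [QuotientGroup.mk_mul, QuotientGroup.mk_inv, hcom']
    group

/-- The layer `Q / F` has order 16 and `c` fixes only its identity. -/
theorem Top.layer (t : Top Q F c) (h : Acts Q c d a) [F.Normal] :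
    Nat.card Q = Nat.card F * 16 ∧ (∀ x ∈ Q, Commute c x → x ∈ F) ∧
      ∀ K : Subgroup L, F ≤ K → K ≤ Q → (∀ x ∈ K, c * x * c⁻¹ ∈ K) → K = F ∨ K = Q := by
  have hq := h.quot F t.le
  haveI := hq.normal
  obtain ⟨h2, hm⟩ := t.quot_data
  obtain ⟨h16, hfix, hinv⟩ := hq.moved le_rfl h2 hm
  refine ⟨?_, fun x hx hc => ?_, fun K hFK hKQ hK => ?_⟩
  · rw [← h16, card_map_mul F Q t.le]
  · exact (QuotientGroup.eq_one_iff x).1
      (hfix _ ⟨x, hx, rfl⟩ (hc.map (QuotientGroup.mk' F)))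
  · have hback : ∀ K' : Subgroup L, F ≤ K' → K'.map (QuotientGroup.mk' F) = K.map (QuotientGroup.mk' F) →
        K = K' := by
      intro K' hFK' e
      ext x
      rw [← mk_mem_map_iff hFK x, ← mk_mem_map_iff hFK' x, e]
    rcases hinv _ (Subgroup.map_mono hKQ) (by
      rintro _ ⟨x, hx, rfl⟩
      exact ⟨_, hK x hx, by simp⟩) with e | e
    · left
      refine hback F le_rfl ?_
      rw [e, Subgroup.map_eq_bot_iff, QuotientGroup.ker_mk']
    · exact Or.inr (hback Q t.le e.symm)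

/-- Elements outside a subgroup lying in one coset double its order at most. -/
theorem card_le_two_mul {K Q : Subgroup L} (h : ∀ x ∈ Q, ∀ y ∈ Q, x ∉ K → y ∉ K → x⁻¹ * y ∈ K) :
    Nat.card Q ≤ 2 * Nat.card K := by
  classical
  by_cases hQ : ∃ x0 ∈ Q, x0 ∉ K
  · obtain ⟨x0, hx0, hx0K⟩ := hQ
    have hsub : (Q : Set L) ⊆ (K : Set L) ∪ (fun k => x0 * k) '' (K : Set L) := by
      intro y hy
      by_cases hyK : y ∈ K
      · exact Or.inl hyK
      · exact Or.inr ⟨x0⁻¹ * y, h x0 hx0 y hy hx0K hyK, mul_inv_cancel_left x0 y⟩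
    calc Nat.card Q = (Q : Set L).ncard := rfl
      _ ≤ ((K : Set L) ∪ (fun k => x0 * k) '' (K : Set L)).ncard :=
          Set.ncard_le_ncard hsub (Set.toFinite _)
      _ ≤ (K : Set L).ncard + ((fun k => x0 * k) '' (K : Set L)).ncard := Set.ncard_union_le _ _
      _ ≤ 2 * (K : Set L).ncard := by
          have := Set.ncard_image_le (f := fun k => x0 * k) (Set.toFinite (K : Set L))
          omega
      _ = 2 * Nat.card K := rfl
  · push Not at hQ
    have := Subgroup.card_le_of_le (fun x hx => hQ x hx : Q ≤ K)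
    omega

/-- When `F` has order 2, `Q` is extraspecial of order 32 and its square roots of one number 2 mod 5. -/
theorem Top.extra (t : Top Q F c) (h : Acts Q c d a) [F.Normal] (hF : Nat.card F = 2) :
    Nat.card Q = 32 ∧ ExtraStruct.ExtraLike 2 Q ∧
      (∀ x : Q, x ∈ Subgroup.center Q ↔ (x : L) ∈ F) ∧
      Nat.card {g : Q // g ^ 2 = 1} % 5 = 2 := by
  haveI := h.normal
  haveI : Fact (Nat.Prime 2) := ⟨Nat.prime_two⟩
  obtain ⟨hcard, hfix, hinv⟩ := t.layer h
  rw [hF] at hcard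
  obtain ⟨z, hz⟩ : ∃ z : F, z ≠ 1 := by
    haveI : Nontrivial F := Finite.one_lt_card_iff_nontrivial.1 (by omega)
    exact exists_ne 1
  have hFz : ∀ x ∈ F, x = 1 ∨ x = (z : L) := fun x hx => (eq_or_ne x 1).imp id fun hx1 =>
    eq_of_card_two hF hx z.2 hx1 fun e => hz (Subtype.ext e)
  have hz1 : (z : L) ≠ 1 := fun e => hz (Subtype.ext e)
  have hzc : ∀ l : L, Commute l (z : L) := by
    intro l
    rcases hFz _ (Subgroup.Normal.conj_mem ‹_› _ z.2 l) with e | e
    · exact absurd (by simpa using e) hz1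
    · exact mul_inv_eq_iff_eq_mul.1 e
  have hFc : ∀ l : L, ∀ x ∈ F, Commute l x := fun l x hx => by
    rcases hFz x hx with rfl | rfl
    · exact Commute.one_right l
    · exact hzc l
  have hz2 : (z : L) * z = 1 := by
    rcases hFz _ (F.mul_mem z.2 z.2) with e | e
    · exact e
    · exact absurd (mul_left_cancel (e.trans (mul_one _).symm)) hz1
  have hF2 : ∀ x ∈ F, x * x = 1 := fun x hx => by
    rcases hFz x hx with rfl | rfl
    · exact one_mul 1
    · exact hz2
  -- the centre of `Q`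
  set Z := Q ⊓ Subgroup.centralizer (Q : Set L) with hZdef
  have hFZ : F ≤ Z := fun x hx => ⟨t.le hx, Subgroup.mem_centralizer_iff.2 fun q _ => (hFc q x hx).eq⟩
  have hZF : Z = F := by
    refine (hinv Z hFZ inf_le_left fun x hx => ?_).resolve_right fun hZQ => ?_
    · exact Subgroup.Normal.conj_mem (inferInstance : Z.Normal) x hx c
    have hab : ∀ x ∈ Q, ∀ y ∈ Q, Commute x y := fun x hx y hy => by
      rw [← hZQ] at hy
      exact Subgroup.mem_centralizer_iff.1 hy.2 x hx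
    let K : Subgroup L :=
      { carrier := {x | x ∈ Q ∧ x * x = 1}
        one_mem' := ⟨Q.one_mem, one_mul 1⟩
        mul_mem' := fun {x y} hx hy => ⟨Q.mul_mem hx.1 hy.1, by
          rw [(hab y hy.1 x hx.1).mul_mul_mul_comm, hx.2, hy.2, one_mul]⟩
        inv_mem' := fun {x} hx => ⟨Q.inv_mem hx.1, by rw [← mul_inv_rev, hx.2, inv_one]⟩ }
    rcases hinv K (fun x hx => ⟨t.le hx, hF2 x hx⟩) (fun x hx => hx.1) (fun x hx =>
      ⟨h.normal.conj_mem x hx.1 c, by
        rw [show c * x * c⁻¹ * (c * x * c⁻¹) = c * (x * x) * c⁻¹ by group, hx.2]; group⟩) with e | e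
    · have hle : Nat.card Q ≤ 2 * Nat.card K := by
        refine card_le_two_mul fun x hx y hy hxK hyK => ⟨Q.mul_mem (Q.inv_mem hx) hy, ?_⟩
        have ex : x * x = z := (hFz _ (t.sq x hx)).resolve_left fun e => hxK ⟨hx, e⟩
        have ey : y * y = z := (hFz _ (t.sq y hy)).resolve_left fun e => hyK ⟨hy, e⟩
        rw [((hab y hy _ (Q.inv_mem hx))).mul_mul_mul_comm, ← mul_inv_rev, ex, ey, inv_mul_cancel]
      rw [hcard, e, hF] at hle
      omega
    · have : F ≤ ⊥ := t.full ⊥ inferInstance fun x hx => by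
        rw [← e] at hx
        exact hx.2
      exact hz1 (this z.2)
  have hcenter : ∀ x : Q, x ∈ Subgroup.center Q ↔ (x : L) ∈ F := by
    intro x
    rw [← hZF, Subgroup.mem_center_iff]
    constructor
    · exact fun hx => ⟨x.2, Subgroup.mem_centralizer_iff.2 fun q hq => congrArg Subtype.val (hx ⟨q, hq⟩)⟩
    · exact fun hx q => Subtype.ext (Subgroup.mem_centralizer_iff.1 hx.2 q q.2)
  have hq2 := t.quot_data.1
  have hcomm : ∀ x ∈ Q, ∀ y ∈ Q, x * y * x⁻¹ * y⁻¹ ∈ F := by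
    intro x hx y hy
    refine (QuotientGroup.eq_one_iff _).1 ?_
    have := (commute_of_sq hq2 ⟨x, hx, rfl⟩ ⟨y, hy, rfl⟩).eq
    simp only [QuotientGroup.mk'_apply] at this
    simp only [QuotientGroup.mk_mul, QuotientGroup.mk_inv, this]
    group
  refine ⟨hcard, ⟨?_, fun x y => (hcenter _).2 (by simpa [commutatorElement_def] using hcomm x x.2 y y.2),
    fun x => (hcenter _).2 (by rw [pow_two]; exact t.sq x x.2)⟩, hcenter, ?_⟩
  · rw [← hF]
    exact Nat.card_congr
      { toFun := fun x => ⟨(x : Q), (hcenter _).1 x.2⟩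
        invFun := fun x => ⟨⟨x, t.le x.2⟩, (hcenter _).2 x.2⟩
        left_inv := fun x => rfl
        right_inv := fun x => rfl }
  · haveI : Fact (Nat.Prime 5) := ⟨Nat.prime_five⟩
    have hmod := card_modEq_fixed h.c_pow {x : L | x ∈ Q ∧ x * x = 1} fun x hx =>
      ⟨h.normal.conj_mem x hx.1 c, by
        rw [show c * x * c⁻¹ * (c * x * c⁻¹) = c * (x * x) * c⁻¹ by group, hx.2]; group⟩
    have h1 : Nat.card {x : L // x ∈ {x : L | x ∈ Q ∧ x * x = 1} ∧ Commute c x} = 2 := by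
      rw [← hF]
      exact Nat.card_congr (Equiv.subtypeEquivRight fun x =>
        ⟨fun hx => hfix x hx.1.1 hx.2, fun hx => ⟨⟨t.le hx, hF2 x hx⟩, hFc c x hx⟩⟩)
    have h2 : Nat.card {g : Q // g ^ 2 = 1} = Nat.card {x : L | x ∈ Q ∧ x * x = 1} :=
      Nat.card_congr
        { toFun := fun g => ⟨(g : Q), (g : Q).2, by
            have := congrArg Subtype.val g.2
            simpa [pow_two] using this⟩
          invFun := fun x => ⟨⟨x, x.2.1⟩, Subtype.ext (by simpa [pow_two] using x.2.2)⟩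
          left_inv := fun g => rfl
          right_inv := fun x => rfl }
    rw [h2]
    rw [h1] at hmod
    exact hmod

omit [Finite L] in
/-- Sums of four disjoint fibres. -/
theorem sum_fibres {α β : Type*} [Finite α] (f : α → β) (e : Fin 4 ≃ β) :
    Nat.card α = Nat.card {x // f x = e 0} + Nat.card {x // f x = e 1} +
      Nat.card {x // f x = e 2} + Nat.card {x // f x = e 3} := by
  classical
  have h : Nat.card α = ∑ i : Fin 4, Nat.card {x // f x = e i} := by
    rw [← Nat.card_sigma]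
    exact Nat.card_congr ((Equiv.sigmaFiberEquiv f).symm.trans
      (Equiv.sigmaCongrLeft (β := fun b => {x // f x = b}) e).symm)
  rw [h, Fin.sum_univ_four]

/-- The counting in the last step. -/
theorem fibres_impossible {n0 n1 n2 n3 m0 m1 m2 m3 : ℕ} (a0 : n0 % 5 = 0) (a1 : n1 % 5 = 0)
    (a2 : n2 % 5 = 0) (a3 : n3 % 5 = 0) (b0 : n0 % 3 = m0 % 3) (b1 : n1 % 3 = m1 % 3)
    (b2 : n2 % 3 = m2 % 3) (b3 : n3 % 3 = m3 % 3) (c0 : m0 ≤ n0) (c1 : m1 ≤ n1) (c2 : m2 ≤ n2)
    (c3 : m3 ≤ n3) (hn : n0 + n1 + n2 + n3 = 15) (hm : m0 + m1 + m2 + m3 ≤ 3)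
    (p1 : 0 < n0 + n1) (p2 : 0 < n0 + n2) (p3 : 0 < n0 + n3)
    (q1 : 0 < n2 ∨ 0 < n3) (q2 : 0 < n1 ∨ 0 < n3) (q3 : 0 < n1 ∨ 0 < n2) : False := by
  have e0 : n0 = 0 ∨ (n0 = 5 ∧ 2 ≤ m0) ∨ (n0 = 10 ∧ 1 ≤ m0) ∨ n0 = 15 := by omega
  have e1 : n1 = 0 ∨ (n1 = 5 ∧ 2 ≤ m1) ∨ (n1 = 10 ∧ 1 ≤ m1) ∨ n1 = 15 := by omega
  have e2 : n2 = 0 ∨ (n2 = 5 ∧ 2 ≤ m2) ∨ (n2 = 10 ∧ 1 ≤ m2) ∨ n2 = 15 := by omega
  have e3 : n3 = 0 ∨ (n3 = 5 ∧ 2 ≤ m3) ∨ (n3 = 10 ∧ 1 ≤ m3) ∨ n3 = 15 := by omega
  clear a0 a1 a2 a3 b0 b1 b2 b3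
  omega

/-- The last step: `F` of order 4 over a central `R` of order 2 cannot occur. -/
theorem false_of_four (t : Top Q F c) (h : Acts Q c d a) [F.Normal] (hF : Nat.card F = 4)
    (hFc : ∀ l : L, ∀ x ∈ F, Commute l x) (hF2 : ∀ x ∈ F, x * x = 1) : False := by
  classical
  haveI := h.normal
  haveI : Fact (Nat.Prime 2) := ⟨Nat.prime_two⟩
  haveI : Fact (Nat.Prime 3) := ⟨Nat.prime_three⟩
  haveI : Fact (Nat.Prime 5) := ⟨Nat.prime_five⟩
  set q := QuotientGroup.mk' F
  have hq := h.quot F t.le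
  haveI := hq.normal
  obtain ⟨hM2, hMmove⟩ := t.quot_data
  have hQM : ∀ v ∈ Q.map q, ∀ w ∈ Q.map q, Commute v w := fun v hv w hw => commute_of_sq hM2 hv hw
  obtain ⟨hM16, hMfix, -⟩ := hq.moved le_rfl hM2 hMmove
  have hd4 := hq.d_fix le_rfl hQM hM2 hMmove
  set M := Q.map q
  have hwd : ∀ x ∈ Q, ∀ y ∈ Q, q x = q y → x * x = y * y := by
    intro x hx y hy hxy
    have hw : x⁻¹ * y ∈ F := QuotientGroup.eq.1 hxy
    obtain ⟨w, hw', rfl⟩ : ∃ w ∈ F, y = x * w := ⟨_, hw, (mul_inv_cancel_left x y).symm⟩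
    rw [((hFc x w hw').symm).mul_mul_mul_comm, hF2 w hw', mul_one]
  let σ : {v : L ⧸ F // v ∈ M ∧ v ≠ 1} → F := fun v =>
    ⟨v.2.1.choose * v.2.1.choose, t.sq _ v.2.1.choose_spec.1⟩
  have hσ : ∀ (x : L) (hx : x ∈ Q) (hne : q x ≠ 1),
      ((σ ⟨q x, ⟨x, hx, rfl⟩, hne⟩ : F) : L) = x * x := by
    intro x hx hne
    exact hwd _ (Exists.choose_spec (⟨x, hx, rfl⟩ : q x ∈ M)).1 x hx
      (Exists.choose_spec (⟨x, hx, rfl⟩ : q x ∈ M)).2
  obtain ⟨e, he⟩ : ∃ e : Fin 4 ≃ F, e 0 = 1 := by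
    let e0 := (Finite.equivFinOfCardEq hF).symm
    exact ⟨(Equiv.swap 0 (e0.symm 1)).trans e0, by simp⟩
  let T : F → Set (L ⧸ F) := fun f => {v | ∃ hv : v ∈ M ∧ v ≠ 1, σ ⟨v, hv⟩ = f}
  have hT : ∀ f, Nat.card {v // σ v = f} = Nat.card (T f) := fun f => Nat.card_congr
    { toFun := fun v => ⟨(v : {v : L ⧸ F // v ∈ M ∧ v ≠ 1}), v.1.2, v.2⟩
      invFun := fun v => ⟨⟨v, v.2.choose⟩, v.2.choose_spec⟩
      left_inv := fun v => rfl
      right_inv := fun v => rfl }
  have hTconj : ∀ (g : L) (f : F), ∀ v ∈ T f, q g * v * (q g)⁻¹ ∈ T f := by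
    rintro g f v ⟨⟨⟨x, hx, rfl⟩, hne⟩, rfl⟩
    have hx' : g * x * g⁻¹ ∈ Q := h.normal.conj_mem x hx g
    have hq' : q g * q x * (q g)⁻¹ = q (g * x * g⁻¹) := by simp
    have hne' : q (g * x * g⁻¹) ≠ 1 := fun e1 => hne (by
      rw [← hq'] at e1
      exact conj_eq_one_iff.1 e1)
    rw [hq']
    refine ⟨⟨⟨_, hx', rfl⟩, hne'⟩, Subtype.ext ?_⟩
    rw [hσ _ hx' hne', hσ _ hx hne, show g * x * g⁻¹ * (g * x * g⁻¹) = g * (x * x) * g⁻¹ by group,
      (hFc g _ (t.sq x hx)).eq, mul_inv_cancel_right]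
  have h5 : ∀ f, Nat.card (T f) % 5 = 0 := by
    intro f
    have hmod := card_modEq_fixed hq.c_pow (T f) (hTconj c f)
    have h0 : Nat.card {v : L ⧸ F // v ∈ T f ∧ Commute (c : L ⧸ F) v} = 0 := by
      rw [Nat.card_eq_zero]
      left
      exact ⟨fun ⟨v, ⟨⟨hvM, hv1⟩, _⟩, hv⟩ => hv1 (hMfix v hvM hv)⟩
    rw [h0] at hmod
    exact hmod
  let g : F → ℕ := fun f => Nat.card {v : L ⧸ F // v ∈ T f ∧ Commute (d : L ⧸ F) v}
  have h3 : ∀ f, Nat.card (T f) % 3 = g f % 3 := fun f =>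
    card_modEq_fixed hq.d_pow (T f) (hTconj d f)
  have hgle : ∀ f, g f ≤ Nat.card (T f) := fun f =>
    Nat.card_le_card_of_injective (fun v => (⟨v.1, v.2.1⟩ : T f)) fun v w hvw =>
      Subtype.ext (congrArg (fun u : T f => (u : L ⧸ F)) hvw)
  have hsum : Nat.card (T (e 0)) + Nat.card (T (e 1)) + Nat.card (T (e 2)) + Nat.card (T (e 3)) = 15 := by
    rw [← hT, ← hT, ← hT, ← hT, ← sum_fibres σ e]
    have hone : Nat.card {v : L ⧸ F // v ∈ M ∧ v ≠ 1} = ((M : Set (L ⧸ F)) \ {1}).ncard :=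
      Nat.card_congr (Equiv.subtypeEquivRight fun v => by simp)
    rw [hone, Set.ncard_sdiff_singleton_of_mem M.one_mem]
    show Nat.card M - 1 = 15
    omega
  have hgsum : g (e 0) + g (e 1) + g (e 2) + g (e 3) ≤ 3 := by
    let σ' : {w : {v : L ⧸ F // v ∈ M ∧ v ≠ 1} // Commute (d : L ⧸ F) w} → F := fun w => σ w
    have hg : ∀ f, Nat.card {w // σ' w = f} = g f := fun f => Nat.card_congr
      { toFun := fun w => ⟨w.1.1.1, ⟨w.1.1.2, w.2⟩, w.1.2⟩
        invFun := fun w => ⟨⟨⟨w.1, w.2.1.choose⟩, w.2.2⟩, w.2.1.choose_spec⟩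
        left_inv := fun w => rfl
        right_inv := fun w => rfl }
    rw [← hg, ← hg, ← hg, ← hg, ← sum_fibres σ' e]
    have hle : Nat.card {w : {v : L ⧸ F // v ∈ M ∧ v ≠ 1} // Commute (d : L ⧸ F) w} =
        (((M ⊓ Subgroup.centralizer {(d : L ⧸ F)} : Subgroup (L ⧸ F)) : Set (L ⧸ F)) \ {1}).ncard :=
      Nat.card_congr
        { toFun := fun w => ⟨w.1.1, ⟨w.1.2.1, Subgroup.mem_centralizer_singleton_iff.2 w.2.eq.symm⟩, w.1.2.2⟩
          invFun := fun w => ⟨⟨w.1, w.2.1.1, w.2.2⟩, (Subgroup.mem_centralizer_singleton_iff.1 w.2.1.2).symm⟩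
          left_inv := fun w => rfl
          right_inv := fun w => rfl }
    rw [hle, Set.ncard_sdiff_singleton_of_mem (Subgroup.one_mem _)]
    show Nat.card ↥(M ⊓ Subgroup.centralizer {(d : L ⧸ F)}) - 1 ≤ 3
    omega
  -- each subgroup of order two gives two non-empty classes
  have hpair : ∀ i : Fin 4, i ≠ 0 →
      0 < Nat.card (T (e 0)) + Nat.card (T (e i)) ∧
        ∃ j : Fin 4, j ≠ 0 ∧ j ≠ i ∧ 0 < Nat.card (T (e j)) := by
    intro i hi
    set k : L := ((e i : F) : L)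
    have hk1 : k ≠ 1 := fun h1 => hi (e.injective (by rw [he]; exact Subtype.ext h1))
    set K := Subgroup.zpowers k with hKdef
    have hkF : k ∈ F := (e i).2
    have hKF : K ≤ F := Subgroup.zpowers_le.2 hkF
    have hKmem : ∀ y : L, y ∈ K ↔ y = 1 ∨ y = k := by
      intro y
      constructor
      · intro hy
        obtain ⟨n, rfl⟩ := Subgroup.mem_zpowers_iff.1 hy
        rcases Int.even_or_odd n with ⟨m, rfl⟩ | ⟨m, rfl⟩
        · left; rw [← two_mul, zpow_mul, zpow_two, hF2 k hkF, one_zpow]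
        · right; rw [zpow_add_one, zpow_mul, zpow_two, hF2 k hkF, one_zpow, one_mul]
      · rintro (rfl | rfl)
        · exact K.one_mem
        · exact Subgroup.mem_zpowers k
    haveI hKn : K.Normal := ⟨fun y hy l => by
      rwa [(hFc l y (hKF hy)).eq, mul_inv_cancel_right]⟩
    have hK2 : Nat.card K = 2 := by
      rw [hKdef, Nat.card_zpowers]
      exact orderOf_eq_prime (by rw [pow_two, hF2 k hkF]) hk1
    have hTmem : ∀ x ∈ Q, x ∉ F → ∀ j : Fin 4, x * x = ((e j : F) : L) → 0 < Nat.card (T (e j)) := by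
      intro x hx hxF j hj
      have hne : q x ≠ 1 := fun h1 => hxF ((QuotientGroup.eq_one_iff x).1 h1)
      haveI : Nonempty (T (e j)) :=
        ⟨⟨q x, ⟨⟨x, hx, rfl⟩, hne⟩, Subtype.ext (by rw [hσ x hx hne, hj])⟩⟩
      exact Nat.card_pos
    refine ⟨?_, ?_⟩
    · have hqK := h.quot K (hKF.trans t.le)
      have tK := t.quot K hKF
      haveI := tK.normal
      have hc2 : Nat.card (F.map (QuotientGroup.mk' K)) = 2 := by
        have := card_map_mul K F hKF
        rw [hK2, hF] at this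
        omega
      obtain ⟨hQ32, hEx, hcen, -⟩ := tK.extra hqK hc2
      obtain ⟨⟨v, hv⟩, hvc, hv2⟩ := ExtraStruct.hasInvolution_of_card hEx (by omega)
      rw [hcen] at hvc
      obtain ⟨x, hx, rfl⟩ := hv
      have hxF : x ∉ F := fun hxF => hvc ⟨x, hxF, rfl⟩
      have hxx : x * x ∈ K := by
        have := congrArg Subtype.val hv2
        simp only [pow_two] at this
        exact (QuotientGroup.eq_one_iff _).1 this
      rcases (hKmem _).1 hxx with e1 | e1
      · have := hTmem x hx hxF 0 (by rw [he]; exact e1)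
        omega
      · have := hTmem x hx hxF i e1
        omega
    · obtain ⟨x, hx, hxK⟩ : ∃ x ∈ Q, x * x ∉ K := by
        by_contra hh
        push Not at hh
        have := Subgroup.card_le_of_le (t.full K hKn hh)
        omega
      have hxF : x ∉ F := fun hxF => hxK (by rw [hF2 x hxF]; exact K.one_mem)
      refine ⟨e.symm ⟨x * x, t.sq x hx⟩, ?_, ?_, hTmem x hx hxF _ (by simp)⟩
      · intro h0
        apply hxK
        have := congrArg e h0
        rw [Equiv.apply_symm_apply, he] at this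
        rw [show x * x = ((1 : F) : L) from congrArg Subtype.val this]
        exact K.one_mem
      · intro h0
        apply hxK
        have := congrArg e h0
        rw [Equiv.apply_symm_apply] at this
        rw [show x * x = k from congrArg Subtype.val this]
        exact Subgroup.mem_zpowers k
  obtain ⟨p1, j1, j10, j11, q1⟩ := hpair 1 (by decide)
  obtain ⟨p2, j2, j20, j22, q2⟩ := hpair 2 (by decide)
  obtain ⟨p3, j3, j30, j33, q3⟩ := hpair 3 (by decide)
  have o1 : j1 = 2 ∨ j1 = 3 :=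
    (by decide : ∀ j : Fin 4, j ≠ 0 → j ≠ 1 → j = 2 ∨ j = 3) j1 j10 j11
  have o2 : j2 = 1 ∨ j2 = 3 :=
    (by decide : ∀ j : Fin 4, j ≠ 0 → j ≠ 2 → j = 1 ∨ j = 3) j2 j20 j22
  have o3 : j3 = 1 ∨ j3 = 2 :=
    (by decide : ∀ j : Fin 4, j ≠ 0 → j ≠ 3 → j = 1 ∨ j = 2) j3 j30 j33
  exact fibres_impossible (h5 (e 0)) (h5 (e 1)) (h5 (e 2)) (h5 (e 3)) (h3 (e 0)) (h3 (e 1)) (h3 (e 2))
    (h3 (e 3)) (hgle (e 0)) (hgle (e 1)) (hgle (e 2)) (hgle (e 3)) hsum hgsum p1 p2 p3
    (by rcases o1 with rfl | rfl <;> [exact Or.inl q1; exact Or.inr q1])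
    (by rcases o2 with rfl | rfl <;> [exact Or.inl q2; exact Or.inr q2])
    (by rcases o3 with rfl | rfl <;> [exact Or.inl q3; exact Or.inr q3])

/-- `F` has order 2. -/
theorem Top.card_two (t : Top Q F c) (h : Acts Q c d a) [hFn : F.Normal] (hF : F ≠ ⊥) :
    Nat.card F = 2 := by
  haveI := h.normal
  haveI : Fact (Nat.Prime 2) := ⟨Nat.prime_two⟩
  haveI : Fact (Nat.Prime 5) := ⟨Nat.prime_five⟩
  obtain ⟨R, hRn, hRF, hRmax⟩ := exists_below F hF
  haveI := hRn
  have t1 := t.quot R hRF.le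
  have h1 := h.quot R (hRF.le.trans t.le)
  haveI := t1.normal
  obtain ⟨hne1, hmin1⟩ := minimal_quot hRF hRmax
  obtain ⟨hc1, hel1, hcases⟩ := minimal_facts h1 t1.le hne1 hmin1
  rcases hcases with hcard1 | hmove1
  swap
  · exact (false_of_sixteen h1 t1.le hel1 hc1 hmove1 t1.sq t1.moves).elim
  have hmul := card_map_mul R F hRF.le
  rw [hcard1] at hmul
  by_cases hR : R = ⊥
  · rw [hR, Subgroup.card_bot, one_mul] at hmul
    exact hmul.symm
  exfalso
  obtain ⟨hQ32, hEx1, hcen1, -⟩ := t1.extra h1 hcard1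
  obtain ⟨S, hSn, hSR, hSmax⟩ := exists_below R hR
  haveI := hSn
  have hSF : S ≤ F := hSR.le.trans hRF.le
  have t2 := t.quot S hSF
  have h2 := h.quot S (hSF.trans t.le)
  haveI := t2.normal
  haveI := h2.normal
  set qS := QuotientGroup.mk' S
  haveI : (R.map qS).Normal := hRn.map _ (QuotientGroup.mk'_surjective S)
  obtain ⟨hne2, hmin2⟩ := minimal_quot hSR hSmax
  have hR'Q : R.map qS ≤ Q.map qS := Subgroup.map_mono (hRF.le.trans t.le)
  obtain ⟨hc2, hel2, hcases2⟩ := minimal_facts h2 hR'Q hne2 hmin2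
  set Q' := Q.map qS with hQ'
  set F' := F.map qS with hF'
  set R' := R.map qS with hR'
  have hR'F' : R' ≤ F' := Subgroup.map_mono hRF.le
  have hcardF' : Nat.card F' = 2 * Nat.card R' := by
    have e1 := card_map_mul S F hSF
    have e2 := card_map_mul S R hSR.le
    have hpos : 0 < Nat.card S := Nat.card_pos
    apply Nat.eq_of_mul_eq_mul_left hpos
    rw [e1, mul_left_comm, e2, ← hmul]
    ring
  have hidx : ∀ x ∈ F', ∀ y ∈ F', x ∉ R' → y ∉ R' → x⁻¹ * y ∈ R' := by
    intro x hx y hy hxR hyR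
    have h2' : R'.relIndex F' = 2 := by
      have := card_mul_relIndex_of_le R' F' hR'F'
      have hpos : 0 < Nat.card R' := Nat.card_pos
      apply Nat.eq_of_mul_eq_mul_left hpos
      rw [this, hcardF', mul_comm]
    have := Subgroup.mul_mem_iff_of_index_two (H := R'.subgroupOf F') h2'
      (a := ⟨x⁻¹, F'.inv_mem hx⟩) (b := ⟨y, hy⟩)
    simp only [Subgroup.mem_subgroupOf, Subgroup.coe_mul] at this
    exact this.2 (by simp [hxR, hyR])
  rcases hcases2 with hR2 | hmove2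
  · -- `R'` of order 2
    have hF4 : Nat.card F' = 4 := by rw [hcardF', hR2]
    have hRc : ∀ l, ∀ x ∈ R', Commute l x := by
      intro l x hx
      obtain ⟨w, hw, huniq⟩ : ∃ w ∈ R', w ≠ 1 ∧ ∀ y ∈ R', y = 1 ∨ y = w := by
        haveI : Nontrivial R' := Finite.one_lt_card_iff_nontrivial.1 (by omega)
        obtain ⟨w, hw⟩ := exists_ne (1 : R')
        exact ⟨w, w.2, fun e => hw (Subtype.ext e), fun y hy => (eq_or_ne y 1).imp id fun hy1 =>
          eq_of_card_two hR2 hy w.2 hy1 fun e => hw (Subtype.ext e)⟩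
      rcases huniq.2 x hx with rfl | rfl
      · exact Commute.one_right l
      · rcases huniq.2 _ (Subgroup.Normal.conj_mem (inferInstance : R'.Normal) _ hw l) with e | e
        · exact absurd (conj_eq_one_iff.1 e) huniq.1
        · exact mul_inv_eq_iff_eq_mul.1 e
    have hFab : ∀ x ∈ F', ∀ y ∈ F', Commute x y := by
      intro x hx y hy
      by_cases hxR : x ∈ R'
      · exact (hRc y x hxR).symm
      by_cases hyR : y ∈ R'
      · exact hRc x y hyR
      have e := hRc x _ (hidx x hx y hy hxR hyR)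
      have : Commute x (x * (x⁻¹ * y)) := (Commute.refl x).mul_right e
      rwa [mul_inv_cancel_left] at this
    obtain ⟨hlayer, -, hinv'⟩ := t2.layer h2
    have hFQc : ∀ q ∈ Q', ∀ x ∈ F', Commute q x := by
      have hle : F' ≤ Q' ⊓ Subgroup.centralizer (F' : Set _) := fun x hx =>
        ⟨t2.le hx, Subgroup.mem_centralizer_iff.2 fun y hy => (hFab y hy x hx).eq⟩
      rcases hinv' _ hle inf_le_left (fun x hx =>
        Subgroup.Normal.conj_mem (inferInstance : (Q' ⊓ Subgroup.centralizer (F' : Set _)).Normal) x hx _) with e | e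
      · exfalso
        obtain ⟨z, hz, hzR⟩ : ∃ z ∈ F', z ∉ R' := by
          by_contra hh
          push Not at hh
          have := Subgroup.card_le_of_le hh
          omega
        have hKe : Q' ⊓ Subgroup.centralizer {z} = F' := by
          refine le_antisymm ?_ (fun x hx => ⟨t2.le hx, Subgroup.mem_centralizer_singleton_iff.2 (hFab x hx z hz).eq⟩)
          rw [← e]
          refine le_inf inf_le_left fun x hx => Subgroup.mem_centralizer_iff.2 fun y hy => ?_
          have hxz : Commute x z := Subgroup.mem_centralizer_singleton_iff.1 hx.2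
          by_cases hyR : y ∈ R'
          · exact (hRc x y hyR).eq.symm
          have h3 := hRc x _ (hidx z hz y hy hzR hyR)
          have : Commute x (z * (z⁻¹ * y)) := hxz.mul_right h3
          rw [mul_inv_cancel_left] at this
          exact this.eq.symm
        have hle2 : Nat.card Q' ≤ 2 * Nat.card F' := by
          rw [← hKe]
          refine card_le_two_mul fun x hx y hy hxK hyK => ?_
          refine ⟨Q'.mul_mem (Q'.inv_mem hx) hy, Subgroup.mem_centralizer_singleton_iff.2 ?_⟩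
          have hxz : x * z * x⁻¹ ∈ F' := Subgroup.Normal.conj_mem (inferInstance : F'.Normal) z hz x
          have hyz : y * z * y⁻¹ ∈ F' := Subgroup.Normal.conj_mem (inferInstance : F'.Normal) z hz y
          -- the conjugates of `z` differing from it coincide
          have hdiff : ∀ g : _, g * z * g⁻¹ ∈ F' → ¬ Commute g z →
              z⁻¹ * (g * z * g⁻¹) ∈ R' ∧ z⁻¹ * (g * z * g⁻¹) ≠ 1 := by
            intro g hg hng
            refine ⟨hidx z hz _ hg hzR fun hh => hzR ?_, fun h0 => hng ?_⟩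
            · have := Subgroup.Normal.conj_mem (inferInstance : R'.Normal) _ hh g⁻¹
              simpa [mul_assoc] using this
            · exact mul_inv_eq_iff_eq_mul.1 (inv_mul_eq_one.1 h0).symm
          have hx' := hdiff x hxz fun hh => hxK ⟨hx, Subgroup.mem_centralizer_singleton_iff.2 hh.eq⟩
          have hy' := hdiff y hyz fun hh => hyK ⟨hy, Subgroup.mem_centralizer_singleton_iff.2 hh.eq⟩
          have heq : z⁻¹ * (x * z * x⁻¹) = z⁻¹ * (y * z * y⁻¹) :=
            eq_of_card_two hR2 hx'.1 hy'.1 hx'.2 hy'.2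
          have h4 := mul_left_cancel heq
          calc x⁻¹ * y * z = x⁻¹ * (y * z * y⁻¹) * y := by group
            _ = x⁻¹ * (x * z * x⁻¹) * y := by rw [h4]
            _ = z * (x⁻¹ * y) := by group
        omega
      · intro q hq x hx
        rw [← e] at hq
        exact (Subgroup.mem_centralizer_iff.1 hq.2 x hx).symm
    have hF2' : ∀ x ∈ F', x * x = 1 := by
      by_contra hh
      push Not at hh
      obtain ⟨z, hz, hz2⟩ := hh
      have hinvR : ∀ x ∈ F', x * x = 1 → x ∈ R' := by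
        intro x hx hx2
        by_contra hxR
        refine hz2 ?_
        by_cases hzR : z ∈ R'
        · exact hel2 z hzR
        have hr := hidx x hx z hz hxR hzR
        have e := hel2 _ hr
        have : z = x * (x⁻¹ * z) := (mul_inv_cancel_left x z).symm
        rw [this, ((hFab _ (hR'F' hr) x hx)).mul_mul_mul_comm, hx2, e, one_mul]
      have hcomm : ∀ x ∈ Q', ∀ y ∈ Q', x * y * x⁻¹ * y⁻¹ ∈ R' := by
        intro x hx y hy
        have hq2 := t2.quot_data.1
        have hmem : x * y * x⁻¹ * y⁻¹ ∈ F' := by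
          refine (QuotientGroup.eq_one_iff _).1 ?_
          have := (commute_of_sq hq2 ⟨x, hx, rfl⟩ ⟨y, hy, rfl⟩).eq
          simp only [QuotientGroup.mk'_apply] at this
          simp only [QuotientGroup.mk_mul, QuotientGroup.mk_inv, this]
          group
        refine hinvR _ hmem ?_
        have c1 : Commute x (x * y * x⁻¹ * y⁻¹) := hFQc x hx _ hmem
        have c2 : Commute y (x * x) := hFQc y hy _ (t2.sq x hx)
        calc (x * y * x⁻¹ * y⁻¹) * (x * y * x⁻¹ * y⁻¹)
            = (x * (x * y * x⁻¹ * y⁻¹) * x⁻¹) * (x * y * x⁻¹ * y⁻¹) := by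
              rw [c1.eq, mul_inv_cancel_right]
          _ = (x * x) * y * (x * x)⁻¹ * y⁻¹ := by group
          _ = 1 := by rw [← c2.eq]; group
      -- modulo `R` the group `Q` is then abelian
      have hab : ∀ u v : Q.map (QuotientGroup.mk' R), u * v = v * u := by
        rintro ⟨_, x, hx, rfl⟩ ⟨_, y, hy, rfl⟩
        apply Subtype.ext
        have hm := (mk_mem_map_iff hSR.le (x * y * x⁻¹ * y⁻¹)).1
          (hcomm (qS x) ⟨x, hx, rfl⟩ (qS y) ⟨y, hy, rfl⟩)
        have := (QuotientGroup.eq_one_iff _).2 hm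
        simp only [QuotientGroup.mk_mul, QuotientGroup.mk_inv] at this
        exact commutatorElement_eq_one_iff_mul_comm.1 this
      have h32 := hEx1.card_center
      rw [show Subgroup.center (Q.map (QuotientGroup.mk' R)) = ⊤ from
        eq_top_iff.2 fun u _ => Subgroup.mem_center_iff.2 fun v => hab v u, Subgroup.card_top, hQ32] at h32
      omega
    have hcfix : ∀ x ∈ F', Commute (c : L ⧸ S) x := by
      have hmod := card_modEq_fixed h2.c_pow (F' : Set _) fun x hx =>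
        Subgroup.Normal.conj_mem (inferInstance : F'.Normal) x hx _
      rw [Acts.card_fixed_eq] at hmod
      change Nat.card F' % 5 = _ % 5 at hmod
      have hle := Subgroup.card_le_of_le (inf_le_left : F' ⊓ Subgroup.centralizer {(c : L ⧸ S)} ≤ F')
      have heq : F' ⊓ Subgroup.centralizer {(c : L ⧸ S)} = F' :=
        Subgroup.eq_of_le_of_card_ge inf_le_left (by omega)
      intro x hx
      rw [← heq] at hx
      exact (Subgroup.mem_centralizer_singleton_iff.1 hx.2).symm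
    exact false_of_four t2 h2 hF4 (h2.fix_all hFQc h2.c_nmem hcfix) hF2'
  · -- `R'` of order 16
    obtain ⟨h16, hfix, -⟩ := h2.moved hR'Q hel2 hmove2
    have hmod := card_modEq_fixed h2.c_pow (F' : Set _) fun x hx =>
      Subgroup.Normal.conj_mem (inferInstance : F'.Normal) x hx _
    rw [Acts.card_fixed_eq] at hmod
    change Nat.card F' % 5 = _ % 5 at hmod
    rw [hcardF', h16] at hmod
    obtain ⟨⟨x, hxF, hxc⟩, hx1⟩ : ∃ x : ↥(F' ⊓ Subgroup.centralizer {(c : L ⧸ S)}), x ≠ 1 := by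
      haveI : Nontrivial ↥(F' ⊓ Subgroup.centralizer {(c : L ⧸ S)}) := by
        refine Finite.one_lt_card_iff_nontrivial.1 ?_
        omega
      exact exists_ne 1
    have hxc' : Commute (c : L ⧸ S) x := (Subgroup.mem_centralizer_singleton_iff.1 hxc).symm
    have hxR : x ∉ R' := fun hh => hx1 (Subtype.ext (hfix x hh hxc'))
    have hxx : x * x = 1 := by
      refine hfix _ ?_ (hxc'.mul_right hxc')
      by_contra hh
      have := hidx x hxF (x * x) (F'.mul_mem hxF hxF) hxR hh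
      rw [inv_mul_cancel_left] at this
      exact hxR this
    have hel : ∀ y ∈ F', y * y = 1 := by
      intro y hy
      by_cases hyR : y ∈ R'
      · exact hel2 y hyR
      have hr := hidx x hxF y hy hxR hyR
      rw [show y = x * (x⁻¹ * y) from (mul_inv_cancel_left x y).symm,
        ((hc2 x (t2.le hxF) _ hr).symm).mul_mul_mul_comm, hxx, hel2 _ hr, one_mul]
    have := h2.card_le_sixteen hel
    omega

end Cfsg.Agent.Lib.RadicalFive
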